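import Cfsg.Agent.DL.CF.Count
import Cfsg.Agent.DL.Lef.Pure
import Cfsg.Agent.DL.Dw.Final
import Cfsg.Agent.DL.Uni.Ip

/-!
# The Deligne-Lusztig induction, canonical definition (helper1)

* `glef S` : the Lefschetz number of `m ↦ S (d * m)` for any `d > 0` for which this is an exponential sum;
* `lam F H V g t` : the Lefschetz number of `x ↦ g x t⁻¹` on `{x ∈ H | x⁻¹ F x ∈ V}`;
* `ind F H K V f g = |K|⁻¹ ∑_{t ∈ K} lam F H V g t * f t`;
* `PInd p S` : `S` is `l`-independent for all primes `l ≠ p`.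
-/

set_option autoImplicit false

namespace Cfsg.Agent.DL.CF

open Cfsg.Agent.DL.Lef Cfsg.Agent.Nodes.Reps

/-! ### the stable Lefschetz number -/

open Classical in
/-- the Lefschetz number of `m ↦ S (d * m)`, for any `d` for which it is defined -/
noncomputable def glef (S : ℕ → ℂ) : ℂ :=
  if h : ∃ d, 0 < d ∧ ExpC fun m => S (d * m) then lef fun m => S (h.choose * m) else 0

theorem glef_eq {S : ℕ → ℂ} {d : ℕ} (hd : 0 < d) (h : ExpC fun m => S (d * m)) :
    glef S = lef fun m => S (d * m) := by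
  have h0 : ∃ d, 0 < d ∧ ExpC fun m => S (d * m) := ⟨d, hd, h⟩
  rw [glef, dif_pos h0, ← lef_comp_mul h0.choose_spec.2 hd, ← lef_comp_mul h h0.choose_spec.1]
  exact lef_congr fun m _ => by rw [← mul_assoc, ← mul_assoc, mul_comm d]

theorem glef_congr {S T : ℕ → ℂ} (h : ∀ m, 0 < m → S m = T m) : glef S = glef T := by
  by_cases h0 : ∃ d, 0 < d ∧ ExpC fun m => S (d * m)
  · obtain ⟨d, hd, h1⟩ := h0
    have h2 : ∀ m, 0 < m → S (d * m) = T (d * m) := fun m hm => h _ (Nat.mul_pos hd hm)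
    rw [glef_eq hd h1, glef_eq hd (h1.congr h2), lef_congr h2]
  · have h1 : ¬ ∃ d, 0 < d ∧ ExpC fun m => T (d * m) := fun ⟨d, hd, h1⟩ =>
      h0 ⟨d, hd, h1.congr fun m hm => (h _ (Nat.mul_pos hd hm)).symm⟩
    rw [glef, glef, dif_neg h0, dif_neg h1]

theorem glef_const (z : ℂ) : glef (fun _ => z) = z := by
  rw [glef_eq one_pos (expC_const z), lef_const]

/-! ### independence of `l` for all `l ≠ p` -/

/-- `S` is an exponential sum that is `l`-independent for every prime `l ≠ p` -/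
def PInd (p : ℕ) (S : ℕ → ℂ) : Prop :=
  ExpC S ∧ ∀ (l : ℕ) [Fact l.Prime], l ≠ p → ∀ ψ : ℂ →+* ℂ_[l], LInd ψ S

namespace PInd

variable {p : ℕ} {S T : ℕ → ℂ}

theorem expC (h : PInd p S) : ExpC S := h.1

theorem congr (h : PInd p S) (e : ∀ m, 0 < m → S m = T m) : PInd p T :=
  ⟨h.1.congr e, fun l _ hl ψ => (h.2 l hl ψ).congr e⟩

theorem const (z : ℂ) : PInd p fun _ => z := ⟨expC_const z, fun _ _ _ _ => lInd_const z⟩

theorem smul (h : PInd p S) (z : ℂ) : PInd p fun m => z * S m :=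
  ⟨h.1.smul z, fun l _ hl ψ => (h.2 l hl ψ).smul z⟩

theorem add (h : PInd p S) (h' : PInd p T) : PInd p fun m => S m + T m :=
  ⟨h.1.add h'.1, fun l _ hl ψ => (h.2 l hl ψ).add (h'.2 l hl ψ)⟩

theorem mul (h : PInd p S) (h' : PInd p T) : PInd p fun m => S m * T m :=
  ⟨h.1.mul h'.1, fun l _ hl ψ => (h.2 l hl ψ).mul (h'.2 l hl ψ)⟩

theorem sum {ι : Type*} (s : Finset ι) {f : ι → ℕ → ℂ} (hf : ∀ i ∈ s, PInd p (f i)) :
    PInd p fun m => ∑ i ∈ s, f i m :=
  ⟨ExpC.sum s fun i hi => (hf i hi).1, fun l _ hl ψ => LInd.sum s fun i hi => (hf i hi).2 l hl ψ⟩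

end PInd

theorem exists_embedding (l : ℕ) [Fact l.Prime] : Nonempty (ℂ →+* ℂ_[l]) := by
  obtain ⟨φ⟩ := Dw.nonempty_padicComplex_equiv (p := l)
  exact ⟨φ.symm.toRingHom⟩

/-! ### elementary properties of the counts -/

section Cnt

variable {Γ : Type*} [Group Γ] {F σ : Γ →* Γ} {H H' : Subgroup Γ} {V V' : Set Γ} {g t h : Γ}

theorem cnt_congr (e : ∀ x ∈ H, x⁻¹ * F x ∈ V ↔ x⁻¹ * F x ∈ V') : cnt F σ H V g t = cnt F σ H V' g t := by
  unfold cnt
  congr 2
  ext x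
  exact and_congr_right fun hx => and_congr_left fun _ => e x hx

theorem cnt_inter (hF : ∀ x ∈ H, F x ∈ H) : cnt F σ H (V ∩ H) g t = cnt F σ H V g t :=
  cnt_congr fun x hx => ⟨fun h => h.1, fun h => ⟨h, H.mul_mem (H.inv_mem hx) (hF x hx)⟩⟩

/-- simultaneous conjugation -/
theorem cnt_conj (hF : F h = h) (hσ : σ h = h) (hH : ∀ x, x ∈ H' ↔ h⁻¹ * x * h ∈ H)
    (hV : ∀ x, x ∈ V' ↔ h⁻¹ * x * h ∈ V) :
    cnt F σ H' V' g t = cnt F σ H V (h⁻¹ * g * h) (h⁻¹ * t * h) := by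
  refine Nat.card_congr ((MulAut.conj h⁻¹).toEquiv.subtypeEquiv fun x => ?_)
  have e : (MulAut.conj h⁻¹).toEquiv x = h⁻¹ * x * h := by simp
  rw [e, mem_pts, mem_pts, hH, hV]
  refine and_congr_right fun _ => and_congr ?_ ?_
  · rw [map_mul, map_mul, map_inv, hF]
    exact iff_of_eq (congrArg (· ∈ V) (by group))
  · rw [map_mul, map_mul, map_inv, hσ]
    constructor
    · intro e'
      rw [e']; group
    · intro e'
      calc σ x = h * (h⁻¹ * σ x * h) * h⁻¹ := by group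
        _ = g * x * t⁻¹ := by rw [e']; group

/-- conjugation of the first variable -/
theorem cnt_left (hF : F h = h) (hσ : σ h = h) (hH : h ∈ H) :
    cnt F σ H V (h * g * h⁻¹) t = cnt F σ H V g t := by
  refine Nat.card_congr ((Equiv.mulLeft h⁻¹).subtypeEquiv fun x => ?_)
  rw [Equiv.coe_mulLeft, mem_pts, mem_pts, H.mul_mem_cancel_left (H.inv_mem hH)]
  refine and_congr_right fun _ => and_congr ?_ ?_
  · rw [map_mul, map_inv, hF]
    exact iff_of_eq (congrArg (· ∈ V) (by group))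
  · rw [map_mul, map_inv, hσ]
    constructor
    · intro e'
      rw [e']; group
    · intro e'
      calc σ x = h * (h⁻¹ * σ x) := by group
        _ = h * g * h⁻¹ * x * t⁻¹ := by rw [e']; group

/-- conjugation of the second variable -/
theorem cnt_right (hF : F h = h) (hσ : σ h = h) (hH : h ∈ H) (hV : ∀ x, x ∈ V' ↔ h⁻¹ * x * h ∈ V) :
    cnt F σ H V' g t = cnt F σ H V g (h⁻¹ * t * h) := by
  rw [cnt_conj hF hσ (H := H) (H' := H) (fun x => ?_) hV]
  · have := cnt_left (F := F) (σ := σ) (V := V) (g := g) (t := h⁻¹ * t * h) (h := h⁻¹)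
      (by rw [map_inv, hF]) (by rw [map_inv, hσ]) (H.inv_mem hH)
    rwa [inv_inv] at this
  · rw [H.mul_mem_cancel_right hH, H.mul_mem_cancel_left (H.inv_mem hH)]

theorem cnt_eq_zero (hσ : ∀ x ∈ H, σ x ∈ H) (ht : t ∈ H) (hg : g ∉ H) : cnt F σ H V g t = 0 := by
  have : IsEmpty (pts F σ H V g t) := ⟨fun x => hg (by
    have h1 : g = σ x * t * (x : Γ)⁻¹ := by rw [x.2.2.2]; group
    rw [h1]
    exact H.mul_mem (H.mul_mem (hσ _ x.2.1) ht) (H.inv_mem x.2.1))⟩
  exact Nat.card_of_isEmpty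

/-- the twisted fixed point sets are finite -/
theorem finite_pts (hfin : ∀ n, 0 < n → {y | σ^[n] y = y}.Finite) (ht : σ t = t) (hto : IsOfFinOrder t) :
    (pts F σ H V g t).Finite := by
  rcases (pts F σ H V g t).eq_empty_or_nonempty with h0 | ⟨x₀, hx₀⟩
  · rw [h0]; exact Set.finite_empty
  refine ((hfin _ hto.orderOf_pos).image fun y => x₀ * y).subset fun x hx => ⟨x₀⁻¹ * x, ?_, mul_inv_cancel_left _ _⟩
  have h1 : σ (x₀⁻¹ * x) = t * (x₀⁻¹ * x) * t⁻¹ := by
    rw [map_mul, map_inv, hx₀.2.2, hx.2.2]; group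
  have h2 : ∀ n, σ^[n] (x₀⁻¹ * x) = t ^ n * (x₀⁻¹ * x) * (t ^ n)⁻¹ := by
    intro n
    induction n with
    | zero => simp
    | succ n ih =>
      rw [Function.iterate_succ_apply', ih, map_mul, map_mul, map_inv, map_pow, ht, h1, pow_succ]
      group
  show σ^[orderOf t] (x₀⁻¹ * x) = x₀⁻¹ * x
  rw [h2, pow_orderOf_eq_one, one_mul, inv_one, mul_one]

end Cnt

/-! ### the Lefschetz numbers and the induction -/

variable {Γ : Type*} [Group Γ]

theorem pow_apply_of_fixed {F : MulAut Γ} {h : Γ} (hF : F h = h) (m : ℕ) : (F ^ m) h = h := by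
  induction m with
  | zero => rfl
  | succ m ih => rw [pow_succ, MulAut.mul_apply, hF, ih]

theorem pow_apply_mem {F : MulAut Γ} {S : Set Γ} (hF : ∀ x ∈ S, F x ∈ S) (m : ℕ) {x : Γ} (hx : x ∈ S) :
    (F ^ m) x ∈ S := by
  induction m with
  | zero => exact hx
  | succ m ih => rw [pow_succ', MulAut.mul_apply]; exact hF _ ih

theorem pow_apply_eq_iterate (F : MulAut Γ) (m : ℕ) (x : Γ) : (F ^ m) x = F^[m] x := by
  induction m with
  | zero => rfl
  | succ m ih => rw [pow_succ', MulAut.mul_apply, ih, Function.iterate_succ_apply']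

/-- the count with `σ = F ^ m` -/
noncomputable def cntF (F : MulAut Γ) (H : Subgroup Γ) (V : Set Γ) (g t : Γ) (m : ℕ) : ℂ :=
  (cnt F.toMonoidHom (F ^ m).toMonoidHom H V g t : ℂ)

/-- the Lefschetz number of `x ↦ g x t⁻¹` on `{x ∈ H | x⁻¹ F x ∈ V}` -/
noncomputable def lam (F : MulAut Γ) (H : Subgroup Γ) (V : Set Γ) (g t : Γ) : ℂ := glef (cntF F H V g t)

/-- the induction of functions from the finite group `K` -/
noncomputable def ind (F : MulAut Γ) (H K : Subgroup Γ) (V : Set Γ) : (Γ → ℂ) →ₗ[ℂ] (Γ → ℂ) where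
  toFun f g := (Nat.card K : ℂ)⁻¹ * ∑ᶠ t : K, lam F H V g t * f t
  map_add' f f' := by
    funext g
    rcases finite_or_infinite K with hK | hK
    · have := Fintype.ofFinite K
      simp only [finsum_eq_sum_of_fintype, Pi.add_apply, mul_add, Finset.sum_add_distrib]
    · simp
  map_smul' c f := by
    funext g
    rcases finite_or_infinite K with hK | hK
    · have := Fintype.ofFinite K
      simp only [finsum_eq_sum_of_fintype, Pi.smul_apply, smul_eq_mul, RingHom.id_apply, Finset.mul_sum]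
      exact Finset.sum_congr rfl fun t _ => by ring
    · simp

variable {F : MulAut Γ} {H H' K : Subgroup Γ} {V V' : Set Γ} {g t h : Γ}

theorem cntF_apply (m : ℕ) : cntF F H V g t m = (cnt F.toMonoidHom (F ^ m).toMonoidHom H V g t : ℂ) := rfl

theorem cntF_mul (d m : ℕ) :
    cntF F H V g t (d * m) = (cnt F.toMonoidHom ((F ^ d) ^ m).toMonoidHom H V g t : ℂ) := by
  rw [cntF, pow_mul]

theorem ind_apply (f : Γ → ℂ) (g : Γ) :
    ind F H K V f g = (Nat.card K : ℂ)⁻¹ * ∑ᶠ t : K, lam F H V g t * f t := rfl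

theorem ind_apply' [Fintype K] (f : Γ → ℂ) (g : Γ) :
    ind F H K V f g = (Nat.card K : ℂ)⁻¹ * ∑ t : K, lam F H V g t * f t := by
  rw [ind_apply, finsum_eq_sum_of_fintype]

theorem ind_congr {f f' : Γ → ℂ} (e : ∀ t ∈ K, f t = f' t) : ind F H K V f = ind F H K V f' := by
  funext g
  rw [ind_apply, ind_apply]
  congr 2
  funext t
  rw [e t t.2]

theorem lam_eq {d : ℕ} (hd : 0 < d) (h : ExpC fun m => cntF F H V g t (d * m)) :
    lam F H V g t = lef fun m => cntF F H V g t (d * m) := glef_eq hd h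

theorem cntF_inter (hF : ∀ x ∈ H, F x ∈ H) : cntF F H (V ∩ H) g t = cntF F H V g t :=
  funext fun _ => congrArg Nat.cast (cnt_inter hF)

theorem cntF_conj (hF : F h = h) (hH : ∀ x, x ∈ H' ↔ h⁻¹ * x * h ∈ H) (hV : ∀ x, x ∈ V' ↔ h⁻¹ * x * h ∈ V) :
    cntF F H' V' g t = cntF F H V (h⁻¹ * g * h) (h⁻¹ * t * h) :=
  funext fun m => congrArg Nat.cast (cnt_conj hF (pow_apply_of_fixed hF m) hH hV)

theorem cntF_left (hF : F h = h) (hH : h ∈ H) : cntF F H V (h * g * h⁻¹) t = cntF F H V g t :=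
  funext fun m => congrArg Nat.cast (cnt_left hF (pow_apply_of_fixed hF m) hH)

theorem cntF_right (hF : F h = h) (hH : h ∈ H) (hV : ∀ x, x ∈ V' ↔ h⁻¹ * x * h ∈ V) :
    cntF F H V' g t = cntF F H V g (h⁻¹ * t * h) :=
  funext fun m => congrArg Nat.cast (cnt_right hF (pow_apply_of_fixed hF m) hH hV)

theorem cntF_eq_zero (hF : ∀ x ∈ H, F x ∈ H) (ht : t ∈ H) (hg : g ∉ H) : cntF F H V g t = fun _ => 0 :=
  funext fun m => by
    have h1 : ∀ x ∈ H, (F ^ m).toMonoidHom x ∈ H := fun x hx => pow_apply_mem (S := (H : Set Γ)) hF m hx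
    rw [cntF, cnt_eq_zero h1 ht hg, Nat.cast_zero]

theorem lam_inter (hF : ∀ x ∈ H, F x ∈ H) : lam F H (V ∩ H) g t = lam F H V g t := by
  rw [lam, lam, cntF_inter hF]

theorem lam_conj (hF : F h = h) (hH : ∀ x, x ∈ H' ↔ h⁻¹ * x * h ∈ H) (hV : ∀ x, x ∈ V' ↔ h⁻¹ * x * h ∈ V) :
    lam F H' V' g t = lam F H V (h⁻¹ * g * h) (h⁻¹ * t * h) := by
  rw [lam, lam, cntF_conj hF hH hV]

theorem lam_left (hF : F h = h) (hH : h ∈ H) : lam F H V (h * g * h⁻¹) t = lam F H V g t := by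
  rw [lam, lam, cntF_left hF hH]

theorem lam_right (hF : F h = h) (hH : h ∈ H) (hV : ∀ x, x ∈ V' ↔ h⁻¹ * x * h ∈ V) :
    lam F H V' g t = lam F H V g (h⁻¹ * t * h) := by
  rw [lam, lam, cntF_right hF hH hV]

theorem lam_eq_zero (hF : ∀ x ∈ H, F x ∈ H) (ht : t ∈ H) (hg : g ∉ H) : lam F H V g t = 0 := by
  rw [lam, cntF_eq_zero hF ht hg, glef_const]

/-- the induced function is a class function -/
theorem ind_conj (hF : F h = h) (hH : h ∈ H) (f : Γ → ℂ) (g : Γ) :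
    ind F H K V f (h * g * h⁻¹) = ind F H K V f g := by
  simp only [ind_apply, lam_left hF hH]

theorem finite_ptsF (hfin : ∀ n, 0 < n → {y | (F ^ n) y = y}.Finite) (ht : F t = t) (hto : IsOfFinOrder t) {m : ℕ}
    (hm : 0 < m) : (pts F.toMonoidHom (F ^ m).toMonoidHom H V g t).Finite := by
  refine finite_pts (fun n hn => (hfin (m * n) (Nat.mul_pos hm hn)).subset fun y hy => ?_)
    (pow_apply_of_fixed ht m) hto
  show (F ^ (m * n)) y = y
  rw [pow_mul, pow_apply_eq_iterate]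
  exact hy

end Cfsg.Agent.DL.CF
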