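import Cfsg.Agent.DL.CF.Formula
import Cfsg.Agent.DL.Asm.Defs
import Cfsg.Agent.DL.Dat.Lang

/-!
# The character formula for a datum (helper1)

From the boxes `SubBox` (datum of the connected centralizer), `PurBox` (purity), `OrthBox` (orthogonality for all
pairs), `UniBox` (unipotent elements of the centralizer lie in the connected centralizer):
`tor`, `RV_indep`, `pconst_R`, `formula_R`, `cent_R`, `full_of`.
-/

set_option autoImplicit false
set_option linter.unusedSectionVars false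

namespace Cfsg.Agent.DL.CF

open Cfsg.Agent.DL.Lef Cfsg.Agent.DL.Uni Cfsg.Agent.DL.Asm Subgroup Cfsg.Agent.Nodes.Reps

variable {p : ℕ} [Fact p.Prime] {k : Type} [Field k] [CharP k p] {Y : Type} [Group Y] {N : Type} [Fintype N]
  [DecidableEq N] {ρ : Y →* GL N k} {F : MulAut Y} {G : Subgroup Y}

/-- `DC` is a datum of the connected centralizer of `s` compatible with `D` -/
structure IsSub (D : Datum p ρ F G) (s : Y) (DC : Datum p ρ F (cco G s)) : Prop where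
  pair : ∀ T V, Pair D T V → s ∈ T → Pair DC T (V ⊓ cco G s)
  tori : ∀ T ∈ tori DC, T ∈ tori D ∧ s ∈ T
  cut : ∀ T V, Pair D T V → s ∈ T → ∀ v ∈ V, v * s = s * v → v ∈ cco G s

variable (p ρ F) in
/-- the datum of the connected centralizer -/
def SubBox : Prop := ∀ (G : Subgroup Y) (D : Datum p ρ F G), ∀ T ∈ tori D, ∀ s ∈ T, F s = s → ∃ DC, IsSub D s DC

variable (p ρ F) in
/-- purity of the counts -/
def PurBox : Prop := ∀ (G : Subgroup Y) (D : Datum p ρ F G) (T V : Subgroup Y), Pair D T V →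
  Ev fun d => ∀ g ∈ GF F G, ∀ t ∈ T ⊓ GF F G, PInd p fun m => cntF F G V g t (d * m)

variable (p ρ F) in
/-- orthogonality for all pairs -/
def OrthBox : Prop := ∀ (G : Subgroup Y) (D : Datum p ρ F G) (T V T' V' : Subgroup Y), Pair D T V → Pair D T' V' →
  ∀ f f' : Y → ℂ, ip (GF F G) (RV F G T V f) (RV F G T' V' f') = (Nat.card ↥(T ⊓ GF F G) : ℂ)⁻¹ *
    ∑ᶠ (h : GF F G) (_ : cj (h : Y) T = T'), ip (T ⊓ GF F G) f fun t => f' (h * t * (h : Y)⁻¹)

variable (p ρ F) in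
/-- unipotent elements commuting with `s` lie in the connected centralizer -/
def UniBox : Prop := ∀ (G : Subgroup Y) (D : Datum p ρ F G), ∀ T ∈ tori D, ∀ s ∈ T, F s = s →
  ∀ u ∈ GF F G, IsUni p u → u * s = s * u → u ∈ cco G s

theorem isSs_T (D : Datum p ρ F G) {t : Y} (ht : t ∈ D.T) : IsSs p t := by
  intro hp
  obtain ⟨d, e, H⟩ := D.exists_split'
  obtain ⟨m, hm, h1⟩ := D.amb.exists_pow_fix fun _ : Unit => t
  have h2 : (F ^ (d * m)) t = t := by
    rw [mul_comm, pow_mul]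
    exact pow_apply_of_fixed (h1 ()) d
  rw [(H.mul hm).T ht] at h2
  have h3 : p ^ (e * m) ≡ 1 [MOD orderOf t] := pow_eq_pow_iff_modEq.1 (by rw [h2, pow_one])
  have h4 : p ∣ 1 := (Nat.ModEq.dvd_iff h3 hp).1 (dvd_pow_self p (Nat.mul_pos H.e_pos hm).ne')
  exact (Fact.out : p.Prime).not_dvd_one h4

section Pair

variable {D : Datum p ρ F G} {T V : Subgroup Y}

theorem pair_T_le (h : Pair D T V) : T ≤ G := by
  obtain ⟨y, hy, rfl, -, -⟩ := h
  exact (cj_mono y D.T_le_G).trans (cj_eq_of_mem hy).le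

theorem pair_V_le (h : Pair D T V) : V ≤ G := by
  obtain ⟨y, hy, -, rfl, -⟩ := h
  exact (cj_mono y D.U_le_G).trans (cj_eq_of_mem hy).le

theorem pair_stab (h : Pair D T V) : T.map F.toMonoidHom = T := h.choose_spec.2.2.2

theorem pair_norm (h : Pair D T V) {t v : Y} (ht : t ∈ T) (hv : v ∈ V) : t * v * t⁻¹ ∈ V := by
  obtain ⟨y, hy, rfl, rfl, -⟩ := h
  rw [mem_cj] at ht hv ⊢
  have := D.conj_mem_U_of_T ht hv
  convert this using 1
  group

theorem pair_ss (h : Pair D T V) {t : Y} (ht : t ∈ T) : IsSs p t := by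
  obtain ⟨y, hy, rfl, -, -⟩ := h
  have := (isSs_T D (mem_cj.1 ht)).conj y
  convert this using 1
  group

theorem pair_comm (h : Pair D T V) {s t : Y} (hs : s ∈ T) (ht : t ∈ T) : s * t = t * s := by
  obtain ⟨y, hy, rfl, -, -⟩ := h
  have := D.T_comm (mem_cj.1 hs) (mem_cj.1 ht)
  calc s * t = y * (y⁻¹ * s * y * (y⁻¹ * t * y)) * y⁻¹ := by group
    _ = t * s := by rw [this]; group

theorem ev_split (D : Datum p ρ F G) : Ev fun d => ∃ e, D.Split d e := by
  obtain ⟨d, e, H⟩ := D.exists_split'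
  refine ⟨d, H.d_pos, fun d' hd' ⟨m, hm⟩ => ⟨e * m, ?_⟩⟩
  subst hm
  exact H.mul (Nat.pos_of_mul_pos_left hd')

theorem ev_fix (A : Amb p ρ F) (y : Y) : Ev fun d => (F ^ d) y = y := by
  obtain ⟨m, hm, h1⟩ := A.exists_pow_fix fun _ : Unit => y
  refine ⟨m, hm, fun d _ ⟨c, hc⟩ => ?_⟩
  show (F ^ d) y = y
  rw [hc, pow_mul]
  exact pow_apply_of_fixed (h1 ()) c

theorem pair_frob (h : Pair D T V) : Ev fun d => ∀ v ∈ V, (F ^ d) v ∈ V := by
  obtain ⟨y, hy, -, rfl, -⟩ := h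
  refine ((ev_split D).and (ev_fix D.amb y)).mono fun d _ ⟨⟨e, H⟩, h1⟩ v hv => ?_
  rw [mem_cj] at hv ⊢
  have := H.mem_S (fun _ ha => ha.1) hv
  rwa [map_mul, map_mul, map_inv, h1] at this

theorem map_cj_of_fixed {h : Y} (hF : F h = h) (T : Subgroup Y) :
    (cj h T).map F.toMonoidHom = cj h (T.map F.toMonoidHom) := by
  ext x
  rw [mem_cj, Subgroup.mem_map_equiv, Subgroup.mem_map_equiv, mem_cj, map_mul, map_mul, map_inv]
  have h1 : F.symm h = h := by rw [MulEquiv.symm_apply_eq, hF]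
  rw [h1]

theorem pair_cj (h : Pair D T V) {x : Y} (hx : x ∈ GF F G) : Pair D (cj x T) (cj x V) := by
  obtain ⟨y, hy, rfl, rfl, h1⟩ := h
  refine ⟨x * y, mul_mem hx.1 hy, (cj_mul _ _ _).symm, (cj_mul _ _ _).symm, ?_⟩
  rw [map_cj_of_fixed hx.2, h1]

end Pair

theorem fin_fix (A : Amb p ρ F) (n : ℕ) (hn : 0 < n) : {y | (F ^ n) y = y}.Finite :=
  have := A.finite_fix_pow hn
  Set.toFinite (fix (F ^ n) : Set Y)

variable [IsAlgClosed k] {D : Datum p ρ F G} {T V V' : Subgroup Y}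

theorem IsSub.tori_eq {s : Y} {DC : Datum p ρ F (cco G s)} (h : IsSub D s DC) :
    Asm.tori DC = {T | T ∈ Asm.tori D ∧ s ∈ T} :=
  Set.ext fun T => ⟨h.tori T, fun hT => (h.pair T _ (pair_Vof hT.1) hT.2).mem_tori⟩

theorem IsSub.inf_eq {s : Y} {DC : Datum p ρ F (cco G s)} (h : IsSub D s DC) (hT : T ∈ Asm.tori D) (hs : s ∈ T) :
    T ⊓ GF F (cco G s) = T ⊓ GF F G := by
  have h1 := pair_T_le (h.pair T _ (pair_Vof hT) hs)
  ext x
  exact ⟨fun hx => ⟨hx.1, cco_le G s hx.2.1, hx.2.2⟩, fun hx => ⟨hx.1, h1 hx.1, hx.2.2⟩⟩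

/-- the geometric hypotheses hold for every pair -/
theorem tor (hS : SubBox p ρ F) (hP : PurBox p ρ F) (h : Pair D T V) : Tor p F G (GF F G) (T ⊓ GF F G) V where
  fin := fin_fix D.amb
  fix _ := Iff.rfl
  stab := D.map_G
  le := inf_le_right
  ss _ ht := pair_ss h ht.1
  norm _ hl _ hv := pair_norm h hl.1 hv
  frob := pair_frob h
  loc z hz := by
    obtain ⟨DC, hC⟩ := hS G D T h.mem_tori z hz.1 hz.2.2
    exact ⟨cco_le G z, fun _ hc => comm_of_mem_cco hc, hC.cut T V h hz.1, fun _ ha => DC.lang_G ha⟩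
  sub z hz := by
    obtain ⟨DC, hC⟩ := hS G D T h.mem_tori z hz.1 hz.2.2
    exact inf_le_left.trans (pair_T_le (hC.pair T V h hz.1))
  pur z hz := by
    obtain ⟨DC, hC⟩ := hS G D T h.mem_tori z hz.1 hz.2.2
    refine (hP _ DC T _ (hC.pair T V h hz.1)).mono fun d _ h1 g hg hF t ht => ?_
    have h2 := h1 g ⟨hg, hF⟩ t (hC.inf_eq h.mem_tori hz.1 ▸ ht)
    rwa [Subgroup.coe_inf, cntF_inter fun _ hx => DC.F_mem_G hx] at h2

/-- the induction does not depend on the Borel subgroup -/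
theorem RV_indep (hO : OrthBox p ρ F) (h : Pair D T V) (h' : Pair D T V') (f : Y → ℂ) :
    ∀ g ∈ GF F G, RV F G T V f g = RV F G T V' f g := by
  have := D.amb.finite_GF G
  exact eq_of_orth (by rw [hO G D T V T V h h, hO G D T V T V' h h'])
    (by rw [hO G D T V' T V h' h, hO G D T V' T V' h' h'])

theorem R_eq_RV (hO : OrthBox p ρ F) (h : Pair D T V) (f : Y → ℂ) : ∀ g ∈ GF F G, R D T f g = RV F G T V f g :=
  RV_indep hO (pair_Vof h.mem_tori) h f

/-- the field `pconst` of `Sys` -/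
theorem pconst_R (hS : SubBox p ρ F) (hP : PurBox p ρ F) (D : Datum p ρ F G) : ∀ T ∈ tori D, ∀ φ f : Y → ℂ,
    PConst p (GF F G) φ → ∀ h ∈ GF F G, R D T (φ * f) h = φ h * R D T f h :=
  fun _ hT _ f hφ _ hh => (tor hS hP (pair_Vof hT)).pconst hφ f hh

/-- the field `formula` of `Cent` -/
theorem formula_R (hS : SubBox p ρ F) (hP : PurBox p ρ F) (hO : OrthBox p ρ F) {s : Y} (hs : s ∈ GF F G)
    (hss : IsSs p s) {DC : Datum p ρ F (cco G s)} (hC : IsSub D s DC) : ∀ T ∈ tori D, ∀ f : Y → ℂ,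
    ∀ u ∈ GF F (cco G s), IsUni p u → R D T f (s * u) = (Nat.card (GF F (cco G s)) : ℂ)⁻¹ *
      ∑ᶠ (x : GF F G) (_ : s ∈ cj (x : Y) T), f ((x : Y)⁻¹ * s * x) * R DC (cj (x : Y) T) 1 u := by
  classical
  intro T hT f u hu huu
  have := D.amb.finite_GF G
  have := Fintype.ofFinite (GF F G)
  have h := pair_Vof hT
  have huG : u ∈ GF F G := ⟨cco_le G s hu.1, hu.2⟩
  rw [finsum_cond, R, (tor hS hP h).ind_jordan f hs huG hss huu (comm_of_mem_cco hu.1).symm
    (CF := GF F (cco G s)) fun _ => Iff.rfl]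
  congr 1
  refine Finset.sum_congr rfl fun x _ => ?_
  have e1 : (x : Y)⁻¹ * s * x ∈ T ⊓ GF F G ↔ s ∈ cj (x : Y) T := by
    rw [mem_cj]
    exact ⟨fun h => h.1, fun h => ⟨h, (GF F G).mul_mem ((GF F G).mul_mem ((GF F G).inv_mem x.2) hs) x.2⟩⟩
  refine if_ctx_congr e1 (fun hx => ?_) fun _ => rfl
  have h1 := hC.pair _ _ (pair_cj h x.2) hx
  rw [R_eq_RV hO h1 1 u hu, (tor hS hP h1).ind_uni 1 hu huu, hC.inf_eq (pair_cj h x.2).mem_tori hx,
    card_cj_inf x.2, Subgroup.coe_inf, lam_inter fun _ hx => DC.F_mem_G hx, Pi.one_apply, mul_one]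
  congr 3
  ext v
  exact mem_cj.symm

/-- the structure `Cent` -/
theorem cent_R (hS : SubBox p ρ F) (hP : PurBox p ρ F) (hO : OrthBox p ρ F) (hU : UniBox p ρ F) (hT : T ∈ tori D)
    {s : Y} (hs : s ∈ T ⊓ GF F G) {DC : Datum p ρ F (cco G s)} (hC : IsSub D s DC)
    (hsys : Sys p (GF F (cco G s)) (tori DC) (R DC)) :
    Cent p (GF F G) (tori D) (R D) s (GF F (cco G s)) (R DC) where
  le _ hx := ⟨cco_le G s hx.1, hx.2⟩
  cent _ hc := comm_of_mem_cco hc.1
  uni u hu huu hc := ⟨hU G D T hT s hs.1 hs.2.2 u hu huu hc, hu.2⟩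
  tor _ hT' hs' := (hC.inf_eq hT' hs').ge.trans inf_le_right
  sys := hC.tori_eq ▸ hsys
  formula := formula_R hS hP hO hs.2 (pair_ss (pair_Vof hT) hs.1) hC

/-- the final assembly -/
theorem full_of (hS : SubBox p ρ F) (hP : PurBox p ρ F) (hO : OrthBox p ρ F) (hU : UniBox p ρ F)
    (hsys : ∀ (G : Subgroup Y) (D : Datum p ρ F G), Sys p (GF F G) (tori D) (R D))
    (hst : ∀ (G : Subgroup Y) (D : Datum p ρ F G), ∃ St, StD p (GF F G) (tori D) (R D) St) (D : Datum p ρ F G) :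
    Full p (GF F G) (tori D) (R D) where
  sys := hsys G D
  st := hst G D
  cent T hT s hs := by
    obtain ⟨DC, hC⟩ := hS G D T hT s hs.1 hs.2.2
    exact ⟨_, R DC, cent_R hS hP hO hU hT hs hC (hsys _ DC), hC.tori_eq ▸ hst _ DC⟩

end Cfsg.Agent.DL.CF
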