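import Mathlib
import Cfsg.Agent.Nodes.Reps

/-!
# The connected component of a subgroup (helper1)

`conn A` is the intersection of all subgroups of finite index of `A`.  It commutes with automorphisms, and it is `D`
as soon as `D ≤ A` has finite index and is the normal closure of a divisible subgroup.
-/

set_option autoImplicit false

namespace Cfsg.Agent.DL.CF

open Cfsg.Agent.Nodes.Reps

variable {G : Type*} [Group G]

/-- The intersection of the subgroups of finite index of `A`. -/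
def conn (A : Subgroup G) : Subgroup G := sInf {B | B ≤ A ∧ B.relIndex A ≠ 0}

theorem mem_conn {A : Subgroup G} {x : G} : x ∈ conn A ↔ ∀ B, B ≤ A → B.relIndex A ≠ 0 → x ∈ B := by
  unfold conn
  rw [Subgroup.mem_sInf]
  exact ⟨fun h B h1 h2 => h B ⟨h1, h2⟩, fun h B hB => h B hB.1 hB.2⟩

theorem conn_le_of {A B : Subgroup G} (h1 : B ≤ A) (h2 : B.relIndex A ≠ 0) : conn A ≤ B :=
  fun _ hx => mem_conn.1 hx B h1 h2

theorem conn_le (A : Subgroup G) : conn A ≤ A :=
  conn_le_of le_rfl (by rw [Subgroup.relIndex_self]; exact one_ne_zero)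

theorem map_conn_le {G' : Type*} [Group G'] (e : G ≃* G') (A : Subgroup G) :
    (conn A).map e.toMonoidHom ≤ conn (A.map e.toMonoidHom) := by
  rintro _ ⟨x, hx, rfl⟩
  rw [mem_conn]
  intro B h1 h2
  have h3 : B.comap e.toMonoidHom ≤ A := by
    intro y hy
    obtain ⟨z, hz, e1⟩ := h1 hy
    rwa [← e.injective e1]
  have h4 : (B.comap e.toMonoidHom).relIndex A ≠ 0 := by
    rw [Subgroup.relIndex_comap]; exact h2
  exact mem_conn.1 hx _ h3 h4

theorem map_conn {G' : Type*} [Group G'] (e : G ≃* G') (A : Subgroup G) :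
    (conn A).map e.toMonoidHom = conn (A.map e.toMonoidHom) := by
  refine le_antisymm (map_conn_le e A) fun y hy => ?_
  have h1 := map_conn_le e.symm (A.map e.toMonoidHom) ⟨y, hy, rfl⟩
  have h2 : (A.map e.toMonoidHom).map e.symm.toMonoidHom = A := by
    rw [Subgroup.map_map]
    have h3 : e.symm.toMonoidHom.comp e.toMonoidHom = MonoidHom.id G := by
      ext x; simp
    rw [h3, Subgroup.map_id]
  rw [h2] at h1
  exact ⟨e.symm y, h1, e.apply_symm_apply y⟩

theorem cj_conn (g : G) (A : Subgroup G) : cj g (conn A) = conn (cj g A) := map_conn (MulAut.conj g) A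

/-- A divisible subgroup lies in every normal subgroup of finite index. -/
theorem le_conn_of_normalClosure {A D T : Subgroup G} (hD : D ≤ A) (hT : T ≤ D)
    (hdiv : ∀ t ∈ T, ∀ n : ℕ, n ≠ 0 → ∃ t' ∈ T, t' ^ n = t)
    (hgen : ∀ M : Subgroup G, T ≤ M → M ≤ D → (∀ d ∈ D, ∀ m ∈ M, d * m * d⁻¹ ∈ M) → D ≤ M) : D ≤ conn A := by
  intro x hx
  rw [mem_conn]
  intro B _ h2
  have h3 : (B.subgroupOf D).index ≠ 0 := fun h0 => h2 (Subgroup.relIndex_eq_zero_of_le_right hD h0)
  have : (B.subgroupOf D).FiniteIndex := ⟨h3⟩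
  let M : Subgroup G := (B.subgroupOf D).normalCore.map D.subtype
  have hMB : M ≤ B := by
    rintro _ ⟨y, hy, rfl⟩
    exact (B.subgroupOf D).normalCore_le hy
  refine hMB (hgen M (fun t ht => ?_) (Subgroup.map_subtype_le _) ?_ hx)
  · obtain ⟨t', ht', rfl⟩ := hdiv t ht (B.subgroupOf D).normalCore.index Subgroup.FiniteIndex.index_ne_zero
    exact ⟨⟨t', hT ht'⟩ ^ (B.subgroupOf D).normalCore.index, Subgroup.pow_index_mem _ _, rfl⟩
  · rintro d hd _ ⟨y, hy, rfl⟩
    exact ⟨⟨d, hd⟩ * y * ⟨d, hd⟩⁻¹, (inferInstance : (B.subgroupOf D).normalCore.Normal).conj_mem y hy _, rfl⟩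

/-- **Recognition of the connected component.** -/
theorem conn_eq {A D T : Subgroup G} (hD : D ≤ A) (hi : D.relIndex A ≠ 0) (hT : T ≤ D)
    (hdiv : ∀ t ∈ T, ∀ n : ℕ, n ≠ 0 → ∃ t' ∈ T, t' ^ n = t)
    (hgen : ∀ M : Subgroup G, T ≤ M → M ≤ D → (∀ d ∈ D, ∀ m ∈ M, d * m * d⁻¹ ∈ M) → D ≤ M) : conn A = D :=
  le_antisymm (conn_le_of hD hi) (le_conn_of_normalClosure hD hT hdiv hgen)

/-- A divisible subgroup of `A` lies in `conn A`. -/
theorem le_conn_of_div {A T : Subgroup G} (hT : T ≤ A)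
    (hdiv : ∀ t ∈ T, ∀ n : ℕ, n ≠ 0 → ∃ t' ∈ T, t' ^ n = t) : T ≤ conn A :=
  le_conn_of_normalClosure hT le_rfl hdiv fun _ h _ _ => h

/-- The connected centraliser of `s` in `H`. -/
def cco (H : Subgroup G) (s : G) : Subgroup G := conn (H ⊓ Subgroup.centralizer {s})

theorem cco_le (H : Subgroup G) (s : G) : cco H s ≤ H := (conn_le _).trans inf_le_left

theorem comm_of_mem_cco {H : Subgroup G} {s c : G} (hc : c ∈ cco H s) : c * s = s * c :=
  Subgroup.mem_centralizer_singleton_iff.1 (conn_le _ hc).2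

theorem map_cco {G' : Type*} [Group G'] (e : G ≃* G') (H : Subgroup G) (s : G) :
    (cco H s).map e.toMonoidHom = cco (H.map e.toMonoidHom) (e s) := by
  unfold cco
  rw [map_conn]
  congr 1
  ext y
  constructor
  · rintro ⟨x, ⟨h1, h2⟩, rfl⟩
    refine ⟨⟨x, h1, rfl⟩, Subgroup.mem_centralizer_singleton_iff.2 ?_⟩
    have h3 := Subgroup.mem_centralizer_singleton_iff.1 h2
    show e x * e s = e s * e x
    rw [← map_mul, h3, map_mul]
  · rintro ⟨⟨x, h1, rfl⟩, h2⟩
    refine ⟨x, ⟨h1, Subgroup.mem_centralizer_singleton_iff.2 (e.injective ?_)⟩, rfl⟩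
    rw [map_mul, map_mul]
    exact Subgroup.mem_centralizer_singleton_iff.1 h2

theorem cj_cco (g : G) (H : Subgroup G) (s : G) : cj g (cco H s) = cco (cj g H) (g * s * g⁻¹) :=
  map_cco (MulAut.conj g) H s

theorem cj_cco_of_mem {H : Subgroup G} {g : G} (hg : g ∈ H) (s : G) : cj g (cco H s) = cco H (g * s * g⁻¹) := by
  rw [cj_cco, cj_eq_of_mem hg]

theorem map_cco_of_fixed (F : MulAut G) {H : Subgroup G} (hH : H.map F.toMonoidHom = H) {s : G} (hs : F s = s) :
    (cco H s).map F.toMonoidHom = cco H s := by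
  rw [map_cco, hH, hs]

end Cfsg.Agent.DL.CF
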