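import Mathlib

/-!
# Counting lemmas for Deligne-Lusztig varieties (helper1)

`G` is a group, `F σ : G →* G`.  For a subgroup `H` and a subset `V` put `Y = {x ∈ H | x⁻¹ * F x ∈ V}` and
`cnt F σ H V g t = #{x ∈ Y | σ x = g x t⁻¹}`.

* `card_fix_mul` : the points of `Y` fixed by `x ↦ s x t⁻¹` are the translates of the variety of `C = C(t)°`;
* `cnt_trans` : transitivity, `Y_{V U} = Y_V ×_{L^F} Y_U`.
-/

set_option autoImplicit false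

namespace Cfsg.Agent.DL.CF

variable {G : Type*} [Group G]

/-- The fixed points of `F` in `H`. -/
def fixIn (F : G →* G) (H : Subgroup G) : Subgroup G where
  carrier := {x | x ∈ H ∧ F x = x}
  one_mem' := ⟨one_mem _, map_one F⟩
  mul_mem' := fun ha hb => ⟨mul_mem ha.1 hb.1, by rw [map_mul, ha.2, hb.2]⟩
  inv_mem' := fun ha => ⟨inv_mem ha.1, by rw [map_inv, ha.2]⟩

theorem mem_fixIn {F : G →* G} {H : Subgroup G} {x : G} : x ∈ fixIn F H ↔ x ∈ H ∧ F x = x := Iff.rfl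

theorem fixIn_mono {F : G →* G} {H C : Subgroup G} (h : C ≤ H) : fixIn F C ≤ fixIn F H :=
  fun _ hd => ⟨h hd.1, hd.2⟩

theorem fixIn_le {F : G →* G} {H : Subgroup G} : fixIn F H ≤ H := fun _ hd => hd.1

/-- The twisted fixed points of `σ` on the variety `{x ∈ H | x⁻¹ F x ∈ V}`. -/
def pts (F σ : G →* G) (H : Subgroup G) (V : Set G) (g t : G) : Set G :=
  {x | x ∈ H ∧ x⁻¹ * F x ∈ V ∧ σ x = g * x * t⁻¹}

theorem mem_pts {F σ : G →* G} {H : Subgroup G} {V : Set G} {g t x : G} :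
    x ∈ pts F σ H V g t ↔ x ∈ H ∧ x⁻¹ * F x ∈ V ∧ σ x = g * x * t⁻¹ := Iff.rfl

/-- The number of twisted fixed points. -/
noncomputable def cnt (F σ : G →* G) (H : Subgroup G) (V : Set G) (g t : G) : ℕ := Nat.card (pts F σ H V g t)

section Fix

variable {F σ : G →* G} {H C : Subgroup G} {V : Set G} {s t : G}

/-- A point of the variety fixed by `x ↦ s x t⁻¹` is `h c`. -/
theorem exists_decomp (hCH : C ≤ H) (hVC : ∀ v ∈ V, v * t = t * v → v ∈ C)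
    (hL : ∀ a ∈ C, ∃ c ∈ C, a = c⁻¹ * F c) (hs : F s = s) (ht : F t = t) {x : G} (hx : x ∈ H)
    (hV : x⁻¹ * F x ∈ V) (hfix : s * x * t⁻¹ = x) : ∃ h ∈ fixIn F H, h⁻¹ * x ∈ C := by
  have h1 : x⁻¹ * s * x = t := by
    have h2 : s * x = x * t := by
      calc s * x = s * x * t⁻¹ * t := by group
        _ = x * t := by rw [hfix]
    calc x⁻¹ * s * x = x⁻¹ * (s * x) := by group
      _ = t := by rw [h2]; group
  have h2 : (F x)⁻¹ * s * F x = t := by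
    have h3 := congrArg F h1
    rwa [map_mul, map_mul, map_inv, hs, ht] at h3
  have h3 : x⁻¹ * F x * t = t * (x⁻¹ * F x) := by
    calc x⁻¹ * F x * t = x⁻¹ * F x * ((F x)⁻¹ * s * F x) := by rw [h2]
      _ = (x⁻¹ * s * x) * (x⁻¹ * F x) := by group
      _ = t * (x⁻¹ * F x) := by rw [h1]
  obtain ⟨c, hc, e⟩ := hL _ (hVC _ hV h3)
  refine ⟨x * c⁻¹, ⟨H.mul_mem hx (H.inv_mem (hCH hc)), ?_⟩, ?_⟩
  · show F (x * c⁻¹) = x * c⁻¹
    rw [map_mul, map_inv]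
    calc F x * (F c)⁻¹ = x * (x⁻¹ * F x) * (F c)⁻¹ := by group
      _ = x * c⁻¹ := by rw [e]; group
  · have h4 : (x * c⁻¹)⁻¹ * x = c := by group
    rw [h4]; exact hc

/-- **The fixed points of `(s, t)`**: a bijection. -/
theorem nonempty_equiv_fix (hCH : C ≤ H) (hCt : ∀ c ∈ C, c * t = t * c) (hVC : ∀ v ∈ V, v * t = t * v → v ∈ C)
    (hL : ∀ a ∈ C, ∃ c ∈ C, a = c⁻¹ * F c) (hσ : ∀ h ∈ fixIn F H, σ h = h) (hs : F s = s) (ht : F t = t)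
    (g t' : G) :
    Nonempty ({x : G // x ∈ pts F σ H V g t' ∧ s * x * t⁻¹ = x} × fixIn F C ≃
      Σ h : {h : fixIn F H // (h : G)⁻¹ * s * h = t}, pts F σ C V (((h : fixIn F H) : G)⁻¹ * g * (h : fixIn F H)) t') := by
  classical
  have key : ∀ x : {x : G // x ∈ pts F σ H V g t' ∧ s * x * t⁻¹ = x}, ∃ h ∈ fixIn F H, h⁻¹ * (x : G) ∈ C :=
    fun x => exists_decomp hCH hVC hL hs ht x.2.1.1 x.2.1.2.1 x.2.2
  choose η hη hηC using key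
  have hle : fixIn F C ≤ fixIn F H := fun d hd => ⟨hCH hd.1, hd.2⟩
  -- the general statement about a decomposition
  have A1 : ∀ (x : {x : G // x ∈ pts F σ H V g t' ∧ s * x * t⁻¹ = x}) (h : G), h⁻¹ * (x : G) ∈ C →
      h⁻¹ * s * h = t := by
    rintro ⟨x, hx, hfix⟩ h hc
    have h1 := hCt _ hc
    have h2 : s * x = x * t := by
      calc s * x = s * x * t⁻¹ * t := by group
        _ = x * t := by rw [hfix]
    calc h⁻¹ * s * h = h⁻¹ * (s * x) * (h⁻¹ * x)⁻¹ := by group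
      _ = (h⁻¹ * x * t) * (h⁻¹ * x)⁻¹ := by rw [h2]; group
      _ = t := by rw [h1]; group
  have A2 : ∀ (x : {x : G // x ∈ pts F σ H V g t' ∧ s * x * t⁻¹ = x}) (h : G), h ∈ fixIn F H →
      h⁻¹ * (x : G) ∈ C → h⁻¹ * (x : G) ∈ pts F σ C V (h⁻¹ * g * h) t' := by
    rintro ⟨x, hx, hfix⟩ h hh hc
    refine ⟨hc, ?_, ?_⟩
    · have h1 : (h⁻¹ * x)⁻¹ * F (h⁻¹ * x) = x⁻¹ * F x := by
        rw [map_mul, map_inv, hh.2]; group
      rw [h1]; exact hx.2.1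
    · rw [map_mul, map_inv, hσ h hh, hx.2.2]; group
  have A3 : ∀ (h : G), h ∈ fixIn F H → h⁻¹ * s * h = t → ∀ c ∈ pts F σ C V (h⁻¹ * g * h) t',
      h * c ∈ pts F σ H V g t' ∧ s * (h * c) * t⁻¹ = h * c := by
    intro h hh e c hc
    refine ⟨⟨mul_mem hh.1 (hCH hc.1), ?_, ?_⟩, ?_⟩
    · have h1 : (h * c)⁻¹ * F (h * c) = c⁻¹ * F c := by
        rw [map_mul, hh.2]; group
      rw [h1]; exact hc.2.1
    · rw [map_mul, hσ h hh, hc.2.2]; group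
    · calc s * (h * c) * t⁻¹ = h * ((h⁻¹ * s * h) * c) * t⁻¹ := by group
        _ = h * (c * t) * t⁻¹ := by rw [e, hCt c hc.1]
        _ = h * c := by group
  refine ⟨Equiv.ofBijective (fun z => ⟨⟨⟨η z.1 * z.2, mul_mem (hη z.1) (hle z.2.2)⟩, A1 z.1 _ ?_⟩,
    ⟨(η z.1 * z.2)⁻¹ * z.1, A2 z.1 _ (mul_mem (hη z.1) (hle z.2.2)) ?_⟩⟩) ⟨?_, ?_⟩⟩
  · have h1 : (η z.1 * z.2)⁻¹ * (z.1 : G) = (z.2 : G)⁻¹ * ((η z.1)⁻¹ * z.1) := by group
    rw [h1]; exact mul_mem (inv_mem z.2.2.1) (hηC z.1)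
  · have h1 : (η z.1 * z.2)⁻¹ * (z.1 : G) = (z.2 : G)⁻¹ * ((η z.1)⁻¹ * z.1) := by group
    rw [h1]; exact mul_mem (inv_mem z.2.2.1) (hηC z.1)
  · rintro ⟨x, d⟩ ⟨x', d'⟩ e
    have h1 : η x * (d : G) = η x' * d' := congrArg (fun z => ((z.1.1 : fixIn F H) : G)) e
    have h2 : (η x * (d : G))⁻¹ * (x : G) = (η x' * d')⁻¹ * x' := congrArg (fun z => (z.2.1 : G)) e
    rw [h1] at h2
    have h3 : x = x' := Subtype.ext (mul_left_cancel h2)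
    subst h3
    exact Prod.ext rfl (Subtype.ext (mul_left_cancel h1))
  · rintro ⟨⟨⟨h, hh⟩, e⟩, ⟨c, hc⟩⟩
    let x : {x : G // x ∈ pts F σ H V g t' ∧ s * x * t⁻¹ = x} := ⟨h * c, A3 h hh e c hc⟩
    have h1 : (η x)⁻¹ * h ∈ fixIn F C := by
      refine ⟨?_, ((fixIn F H).mul_mem ((fixIn F H).inv_mem (hη x)) hh).2⟩
      have h2 : (η x)⁻¹ * h = ((η x)⁻¹ * (h * c)) * c⁻¹ := by group
      rw [h2]
      exact mul_mem (hηC x) (inv_mem hc.1)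
    refine ⟨(x, ⟨(η x)⁻¹ * h, h1⟩), ?_⟩
    have h2 : η x * ((η x)⁻¹ * h) = h := by group
    refine Sigma.subtype_ext (Subtype.ext (Subtype.ext h2)) ?_
    show (η x * ((η x)⁻¹ * h))⁻¹ * (h * c) = c
    group

/-- **The fixed points of `(s, t)`**: the count. -/
theorem card_fix_mul [Fintype (fixIn F H)] [DecidableEq G] (hCH : C ≤ H) (hCt : ∀ c ∈ C, c * t = t * c)
    (hVC : ∀ v ∈ V, v * t = t * v → v ∈ C)
    (hL : ∀ a ∈ C, ∃ c ∈ C, a = c⁻¹ * F c) (hσ : ∀ h ∈ fixIn F H, σ h = h) (hs : F s = s) (ht : F t = t)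
    (g t' : G) (hfin : ∀ g', (pts F σ C V g' t').Finite) :
    Nat.card {x : G // x ∈ pts F σ H V g t' ∧ s * x * t⁻¹ = x} * Nat.card (fixIn F C) =
      ∑ h : fixIn F H, if (h : G)⁻¹ * s * h = t then cnt F σ C V ((h : G)⁻¹ * g * h) t' else 0 := by
  obtain ⟨e⟩ := nonempty_equiv_fix hCH hCt hVC hL hσ hs ht g t'
  have : ∀ g', Finite (pts F σ C V g' t') := fun g' => (hfin g').to_subtype
  rw [← Nat.card_prod, Nat.card_congr e, Nat.card_sigma, ← Finset.sum_filter]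
  exact (Finset.sum_subtype (Finset.univ.filter fun h : fixIn F H => (h : G)⁻¹ * s * h = t)
    (p := fun h : fixIn F H => (h : G)⁻¹ * s * h = t) (fun h => by simp)
    (fun h : fixIn F H => cnt F σ C V ((h : G)⁻¹ * g * h) t')).symm

end Fix

section Trans

variable {F σ : G →* G} {H L : Subgroup G} {V U VU : Set G}

/-- **Transitivity**: a bijection.  `VU` is the product set of `V` and `U ⊆ L`, `L` normalises `V`, and a product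
`v * l` determines `l`. -/
theorem nonempty_equiv_trans (hLH : L ≤ H) (hUL : ∀ u ∈ U, u ∈ L) (hVU : ∀ z, z ∈ VU ↔ ∃ v ∈ V, ∃ u ∈ U, z = v * u)
    (hLV : ∀ l ∈ L, ∀ v ∈ V, l * v * l⁻¹ ∈ V)
    (huniq : ∀ v ∈ V, ∀ v' ∈ V, ∀ l ∈ L, ∀ l' ∈ L, v * l = v' * l' → l = l')
    (hL : ∀ a ∈ L, ∃ c ∈ L, a = c⁻¹ * F c) (hFL : ∀ l ∈ L, F l ∈ L) (hσL : ∀ l ∈ L, σ l ∈ L)
    (hσV : ∀ v ∈ V, σ v ∈ V) (hc : ∀ x, σ (F x) = F (σ x))
    {g t : G} (hg : F g = g) (ht : t ∈ fixIn F L) :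
    Nonempty (pts F σ H VU g t × fixIn F L ≃ Σ l : fixIn F L, pts F σ H V g l × pts F σ L U l t) := by
  classical
  have key : ∀ z : pts F σ H VU g t, ∃ y ∈ L, y⁻¹ * F y ∈ U ∧ ((z : G) * y⁻¹)⁻¹ * F (z * y⁻¹) ∈ V := by
    rintro ⟨z, hz, hzV, hzσ⟩
    obtain ⟨v, hv, u, hu, e⟩ := (hVU _).1 hzV
    obtain ⟨y, hy, e'⟩ := hL u (hUL u hu)
    refine ⟨y, hy, e' ▸ hu, ?_⟩
    have h1 : (z * y⁻¹)⁻¹ * F (z * y⁻¹) = y * v * y⁻¹ := by
      rw [map_mul, map_inv]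
      calc (z * y⁻¹)⁻¹ * (F z * (F y)⁻¹) = y * (z⁻¹ * F z) * (F y)⁻¹ := by group
        _ = y * v * y⁻¹ := by rw [e, e']; group
    show (z * y⁻¹)⁻¹ * F (z * y⁻¹) ∈ V
    rw [h1]; exact hLV y hy v hv
  choose η hη hηU hηV using key
  -- a decomposition `z = x y` determines `l`
  have A1 : ∀ (z : pts F σ H VU g t) (y : G), y ∈ L → ((z : G) * y⁻¹)⁻¹ * F (z * y⁻¹) ∈ V →
      σ y * t * y⁻¹ ∈ fixIn F L := by
    rintro ⟨z, hz, hzV, hzσ⟩ y hy hV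
    refine ⟨L.mul_mem (L.mul_mem (hσL y hy) ht.1) (L.inv_mem hy), ?_⟩
    have hV' : (z * y⁻¹)⁻¹ * F (z * y⁻¹) ∈ V := hV
    set v := (z * y⁻¹)⁻¹ * F (z * y⁻¹) with hv
    have e1 : z⁻¹ * F z = (y⁻¹ * v * y⁻¹⁻¹) * (y⁻¹ * F y) := by
      rw [hv, map_mul, map_inv]; group
    have hu : y⁻¹ * F y ∈ L := L.mul_mem (L.inv_mem hy) (hFL y hy)
    have hv' : y⁻¹ * v * y⁻¹⁻¹ ∈ V := hLV _ (L.inv_mem hy) v hV'
    have e2 : σ (z⁻¹ * F z) = t * (z⁻¹ * F z) * t⁻¹ := by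
      rw [map_mul, map_inv, hc, hzσ, map_mul, map_mul, map_inv, hg, ht.2]; group
    have e3 : σ (y⁻¹ * F y) = t * (y⁻¹ * F y) * t⁻¹ := by
      refine huniq _ (hσV _ hv') _ (hLV t ht.1 _ hv') _ (hσL _ hu) _
        (L.mul_mem (L.mul_mem ht.1 hu) (L.inv_mem ht.1)) ?_
      rw [← map_mul, ← e1, e2, e1]; group
    rw [map_mul, map_inv, hc] at e3
    show F (σ y * t * y⁻¹) = σ y * t * y⁻¹
    rw [map_mul, map_mul, map_inv, ht.2]
    calc F (σ y) * t * (F y)⁻¹ = σ y * ((σ y)⁻¹ * F (σ y)) * t * (F y)⁻¹ := by group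
      _ = σ y * t * y⁻¹ := by rw [e3]; group
  have B1 : ∀ (z : pts F σ H VU g t) (d : fixIn F L), ((z : G) * ((d : G) * η z)⁻¹)⁻¹ * F (z * ((d : G) * η z)⁻¹) ∈ V := by
    intro z d
    have h1 : ((z : G) * ((d : G) * η z)⁻¹)⁻¹ * F (z * ((d : G) * η z)⁻¹) =
        d * (((z : G) * (η z)⁻¹)⁻¹ * F (z * (η z)⁻¹)) * (d : G)⁻¹ := by
      rw [map_mul, map_inv, map_mul, d.2.2, map_mul, map_inv]; group
    rw [h1]; exact hLV _ d.2.1 _ (hηV z)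
  refine ⟨Equiv.ofBijective (fun z => ⟨⟨σ ((z.2 : G) * η z.1) * t * ((z.2 : G) * η z.1)⁻¹,
    A1 z.1 _ (L.mul_mem z.2.2.1 (hη z.1)) (B1 z.1 z.2)⟩,
    ⟨(z.1 : G) * ((z.2 : G) * η z.1)⁻¹, H.mul_mem z.1.2.1 (H.inv_mem (hLH (L.mul_mem z.2.2.1 (hη z.1)))),
      B1 z.1 z.2, ?_⟩, ⟨(z.2 : G) * η z.1, L.mul_mem z.2.2.1 (hη z.1), ?_, ?_⟩⟩) ⟨?_, ?_⟩⟩
  · show σ ((z.1 : G) * ((z.2 : G) * η z.1)⁻¹) = g * ((z.1 : G) * ((z.2 : G) * η z.1)⁻¹) *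
      (σ ((z.2 : G) * η z.1) * t * ((z.2 : G) * η z.1)⁻¹)⁻¹
    rw [map_mul, map_inv, z.1.2.2.2]; group
  · have h1 : ((z.2 : G) * η z.1)⁻¹ * F ((z.2 : G) * η z.1) = (η z.1)⁻¹ * F (η z.1) := by
      rw [map_mul, z.2.2.2]; group
    rw [h1]; exact hηU z.1
  · show σ ((z.2 : G) * η z.1) = (σ ((z.2 : G) * η z.1) * t * ((z.2 : G) * η z.1)⁻¹) * ((z.2 : G) * η z.1) * t⁻¹
    group
  · rintro ⟨z, d⟩ ⟨z', d'⟩ e
    have h1 : (z : G) * ((d : G) * η z)⁻¹ = z' * ((d' : G) * η z')⁻¹ := congrArg (fun w => (w.2.1.1 : G)) e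
    have h2 : (d : G) * η z = d' * η z' := congrArg (fun w => (w.2.2.1 : G)) e
    rw [h2] at h1
    have h3 : z = z' := Subtype.ext (mul_right_cancel h1)
    subst h3
    exact Prod.ext rfl (Subtype.ext (mul_right_cancel h2))
  · rintro ⟨⟨l, hl⟩, ⟨x, hx, hxV, hxσ⟩, ⟨y, hy, hyU, hyσ⟩⟩
    have hxσ' : σ x = g * x * l⁻¹ := hxσ
    have hyσ' : σ y = l * y * t⁻¹ := hyσ
    have e1 : (x * y)⁻¹ * F (x * y) = (y⁻¹ * (x⁻¹ * F x) * y⁻¹⁻¹) * (y⁻¹ * F y) := by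
      rw [map_mul]; group
    let z : pts F σ H VU g t := ⟨x * y, H.mul_mem hx (hLH hy),
      (hVU _).2 ⟨_, hLV _ (L.inv_mem hy) _ hxV, _, hyU, e1⟩, by rw [map_mul, hxσ', hyσ']; group⟩
    have hz : (z : G) = x * y := rfl
    have hu : (η z)⁻¹ * F (η z) ∈ L := L.mul_mem (L.inv_mem (hη z)) (hFL _ (hη z))
    have e2 : (η z)⁻¹ * F (η z) = y⁻¹ * F y := by
      refine huniq _ (hLV _ (L.inv_mem (hη z)) _ (hηV z)) _ (hLV _ (L.inv_mem hy) _ hxV) _ hu _ (hUL _ hyU) ?_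
      rw [← e1, hz, map_mul F (x * y), map_inv]; group
    have h1 : y * (η z)⁻¹ ∈ fixIn F L := by
      refine ⟨L.mul_mem hy (L.inv_mem (hη z)), ?_⟩
      show F (y * (η z)⁻¹) = y * (η z)⁻¹
      rw [map_mul, map_inv]
      calc F y * (F (η z))⁻¹ = y * (y⁻¹ * F y) * (F (η z))⁻¹ := by group
        _ = y * (η z)⁻¹ := by rw [← e2]; group
    refine ⟨(z, ⟨y * (η z)⁻¹, h1⟩), ?_⟩
    have h2 : y * (η z)⁻¹ * η z = y := by group
    have h3 : σ (y * (η z)⁻¹ * η z) * t * (y * (η z)⁻¹ * η z)⁻¹ = l := by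
      rw [h2, hyσ']; group
    have h4 : (z : G) * (y * (η z)⁻¹ * η z)⁻¹ = x := by rw [hz]; group
    refine Sigma.ext (Subtype.ext h3) ?_
    dsimp only
    congr 1
    all_goals first
      | exact congrArg (fun w => (pts F σ H V g w : Type _)) h3
      | exact congrArg (fun w => (pts F σ L U w t : Type _)) h3
      | exact (Subtype.heq_iff_coe_eq (fun w => by rw [h3])).2 h4
      | exact (Subtype.heq_iff_coe_eq (fun w => by rw [h3])).2 h2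

/-- **Transitivity**: the count. -/
theorem cnt_trans [Fintype (fixIn F L)] (hLH : L ≤ H) (hUL : ∀ u ∈ U, u ∈ L)
    (hVU : ∀ z, z ∈ VU ↔ ∃ v ∈ V, ∃ u ∈ U, z = v * u)
    (hLV : ∀ l ∈ L, ∀ v ∈ V, l * v * l⁻¹ ∈ V)
    (huniq : ∀ v ∈ V, ∀ v' ∈ V, ∀ l ∈ L, ∀ l' ∈ L, v * l = v' * l' → l = l')
    (hL : ∀ a ∈ L, ∃ c ∈ L, a = c⁻¹ * F c) (hFL : ∀ l ∈ L, F l ∈ L) (hσL : ∀ l ∈ L, σ l ∈ L)
    (hσV : ∀ v ∈ V, σ v ∈ V) (hc : ∀ x, σ (F x) = F (σ x))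
    {g t : G} (hg : F g = g) (ht : t ∈ fixIn F L)
    (hfin : ∀ l, (pts F σ H V g l).Finite) (hfin' : ∀ l, (pts F σ L U l t).Finite) :
    cnt F σ H VU g t * Nat.card (fixIn F L) = ∑ l : fixIn F L, cnt F σ H V g l * cnt F σ L U l t := by
  obtain ⟨e⟩ := nonempty_equiv_trans hLH hUL hVU hLV huniq hL hFL hσL hσV hc hg ht
  have : ∀ l, Finite (pts F σ H V g l) := fun l => (hfin l).to_subtype
  have : ∀ l, Finite (pts F σ L U l t) := fun l => (hfin' l).to_subtype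
  unfold cnt
  rw [← Nat.card_prod, Nat.card_congr e, Nat.card_sigma]
  exact Finset.sum_congr rfl fun l _ => Nat.card_prod _ _

end Trans

end Cfsg.Agent.DL.CF
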