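import Cfsg.Agent.DL.CF.Ind
import Cfsg.Agent.DL.Uni.Jordan

/-!
# The fixed point formula (helper1)

* `lef_fix` : for commuting `κ` (a `p'`-element) and `u` (a `p`-element), the Lefschetz number of `κ u` is the Lefschetz
  number of `u` on the fixed points of `κ` (induction over the primes dividing the order of `κ`);
* `Loc` : the local data at `t` (the connected centralizer `C`);
* `lam_fix` : `lam H (s u) (t v) = |C^F|⁻¹ ∑_{h⁻¹ s h = t} lam C (h⁻¹ u h) v`.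
-/

set_option autoImplicit false

namespace Cfsg.Agent.DL.CF

open Cfsg.Agent.DL.Lef Cfsg.Agent.DL.Uni Subgroup

section Act

variable {K X : Type*} [Group K] [MulAction K X]

/-- the count on the fixed points of `a` in `S` -/
noncomputable def fcnt (S : Set X) (Φ : X → X) (a b : K) (m : ℕ) : ℂ :=
  (Nat.card {x // x ∈ S ∧ a • x = x ∧ Φ^[m] x = b • x} : ℂ)

theorem smul_eq_of_mul {a s : K} (h : Commute a s) (hc : (orderOf a).Coprime (orderOf s)) {x : X}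
    (hx : (a * s) • x = x) : a • x = x := by
  have h1 : a ∈ zpowers (a ^ orderOf s) := mem_zpowers_pow_iff.2 hc.symm
  have h2 : a ^ orderOf s = (a * s) ^ orderOf s := by rw [h.mul_pow, pow_orderOf_eq_one, mul_one]
  have h3 : zpowers (a ^ orderOf s) ≤ MulAction.stabilizer K x := by
    rw [zpowers_le, h2]
    exact pow_mem (MulAction.mem_stabilizer_iff.2 hx) _
  exact h3 h1

theorem mul_smul_eq_iff {a s : K} (h : Commute a s) (hc : (orderOf a).Coprime (orderOf s)) {x : X} :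
    (a * s) • x = x ↔ a • x = x ∧ s • x = x :=
  ⟨fun hx => ⟨smul_eq_of_mul h hc hx, smul_eq_of_mul h.symm hc.symm (h.eq ▸ hx)⟩,
    fun hx => by rw [mul_smul, hx.2, hx.1]⟩

variable {S : Set X} {Φ : X → X} {Z : Subgroup K}

theorem lef_step (hinj : Function.Injective Φ) (hΦS : ∀ x ∈ S, Φ x ∈ S) (hS : ∀ z ∈ Z, ∀ x ∈ S, z • x ∈ S)
    (hΦ : ∀ z ∈ Z, ∀ x, Φ (z • x) = z • Φ x) {a s g : K} (ha : a ∈ Z) (hs : s ∈ Z) (hg : g ∈ Z) (has : Commute a s)
    (hag : Commute a g) (hsg : Commute s g) {l e : ℕ} [hl : Fact l.Prime] (hse : orderOf s = l ^ e)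
    (hgl : (orderOf g).Coprime l) (hal : (orderOf a).Coprime l)
    (hfin : ∀ m, 0 < m → {x | x ∈ S ∧ Φ^[m] x = (s * g) • x}.Finite) (ψ : ℂ →+* ℂ_[l])
    (h1 : LInd ψ (fcnt S Φ a (s * g))) (h2 : LInd ψ (fcnt S Φ (a * s) g)) :
    lef (fcnt S Φ a (s * g)) = lef (fcnt S Φ (a * s) g) := by
  let Z' : Subgroup K := Z ⊓ centralizer {a}
  let S' : SubMulAction Z' X :=
    { carrier := {x | x ∈ S ∧ a • x = x}
      smul_mem' := fun z x hx => ⟨hS z z.2.1 x hx.1, by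
        have hz : a * (z : K) = z * a := mem_centralizer_iff.1 z.2.2 a rfl
        show a • ((z : K) • x) = (z : K) • x
        rw [smul_smul, hz, mul_smul, hx.2]⟩ }
  let Φ' : S' → S' := fun x => ⟨Φ x, hΦS x x.2.1, by rw [← hΦ a ha, x.2.2]⟩
  have hit : ∀ m (x : S'), ((Φ'^[m] x : S') : X) = Φ^[m] x := by
    intro m x
    induction m with
    | zero => rfl
    | succ m ih => rw [Function.iterate_succ_apply', Function.iterate_succ_apply', ← ih]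
  let s' : Z' := ⟨s, hs, mem_centralizer_singleton_iff.2 has.symm.eq⟩
  let g' : Z' := ⟨g, hg, mem_centralizer_singleton_iff.2 hag.symm.eq⟩
  have hcop : (orderOf a).Coprime (orderOf s) := hse ▸ hal.pow_right e
  have e1 : ∀ m, {x : S' // Φ'^[m] x = (s' * g') • x} ≃ {x // x ∈ S ∧ a • x = x ∧ Φ^[m] x = (s * g) • x} := fun m =>
    { toFun := fun x => ⟨x.1.1, x.1.2.1, x.1.2.2, (hit m x.1).symm.trans (congrArg Subtype.val x.2)⟩
      invFun := fun x => ⟨⟨x.1, x.2.1, x.2.2.1⟩, Subtype.ext ((hit m _).trans x.2.2.2)⟩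
      left_inv := fun _ => rfl
      right_inv := fun _ => rfl }
  have e2 : ∀ m, {x : S' // s' • x = x ∧ Φ'^[m] x = g' • x} ≃
      {x // x ∈ S ∧ (a * s) • x = x ∧ Φ^[m] x = g • x} := fun m =>
    { toFun := fun x => ⟨x.1.1, x.1.2.1, (mul_smul_eq_iff has hcop).2 ⟨x.1.2.2, congrArg Subtype.val x.2.1⟩,
        (hit m x.1).symm.trans (congrArg Subtype.val x.2.2)⟩
      invFun := fun x => ⟨⟨x.1, x.2.1, ((mul_smul_eq_iff has hcop).1 x.2.2.1).1⟩,
        Subtype.ext ((mul_smul_eq_iff has hcop).1 x.2.2.1).2, Subtype.ext ((hit m _).trans x.2.2.2)⟩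
      left_inv := fun _ => rfl
      right_inv := fun _ => rfl }
  have c1 : (fun m => (Nat.card {x : S' // Φ'^[m] x = (s' * g') • x} : ℂ)) = fcnt S Φ a (s * g) :=
    funext fun m => congrArg Nat.cast (Nat.card_congr (e1 m))
  have c2 : (fun m => (Nat.card {x : S' // s' • x = x ∧ Φ'^[m] x = g' • x} : ℂ)) = fcnt S Φ (a * s) g :=
    funext fun m => congrArg Nat.cast (Nat.card_congr (e2 m))
  rw [← c1] at h1 ⊢
  rw [← c2] at h2 ⊢
  refine lef_fixed_point (K := Z') (X := S') (a := e) (fun x y h => Subtype.ext (hinj (congrArg Subtype.val h)))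
    (fun x => Subtype.ext (hΦ s hs x)) (fun x => Subtype.ext (hΦ g hg x)) (Subtype.ext hsg.eq) hl.out
    (Subtype.ext ?_) ?_ (fun m hm => ?_) (padicComplex_norm_lt_one l) h1 h2
  · show s ^ l ^ e = 1
    rw [← hse, pow_orderOf_eq_one]
  · rwa [← orderOf_coe]
  · have := (hfin m hm).to_subtype
    exact Finite.of_injective (fun x : {x : S' // Φ'^[m] x = (s' * g') • x} =>
      (⟨x.1.1, x.1.2.1, (hit m x.1).symm.trans (congrArg Subtype.val x.2)⟩ : {x | x ∈ S ∧ Φ^[m] x = (s * g) • x}))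
      fun x y h => Subtype.ext (Subtype.ext (by simpa using h))

theorem commute_of_mem_zpowers {κ u a : K} (h : Commute κ u) (ha : a ∈ zpowers κ) : Commute a u := by
  obtain ⟨n, rfl⟩ := ha
  exact h.zpow_left n

variable {p : ℕ} [Fact p.Prime]

theorem lef_fix_aux (hinj : Function.Injective Φ) (hΦS : ∀ x ∈ S, Φ x ∈ S) (hS : ∀ z ∈ Z, ∀ x ∈ S, z • x ∈ S)
    (hΦ : ∀ z ∈ Z, ∀ x, Φ (z • x) = z • Φ x) {κ u : K} (hκ : κ ∈ Z) (hu : u ∈ Z) (hc : Commute κ u) (hss : IsSs p κ)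
    (huu : IsUni p u) (hfin : ∀ b ∈ Z, ∀ m, 0 < m → {x | x ∈ S ∧ Φ^[m] x = b • x}.Finite)
    (hP : ∀ a ∈ zpowers κ, ∀ b ∈ zpowers κ, PInd p (fcnt S Φ a (b * u))) (n : ℕ) :
    ∀ a ∈ zpowers κ, ∀ b ∈ zpowers κ, orderOf b = n → (orderOf a).Coprime (orderOf b) →
      lef (fcnt S Φ a (b * u)) = lef (fcnt S Φ (a * b) u) := by
  induction n using Nat.strong_induction_on with
  | _ n ih =>
  intro a ha b hb hn hab
  by_cases h1 : b = 1
  · rw [h1, one_mul, mul_one]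
  have hZ : zpowers κ ≤ Z := (zpowers_le).2 hκ
  have hbκ : orderOf b ∣ orderOf κ := orderOf_dvd_of_mem_zpowers hb
  have hκ0 : orderOf κ ≠ 0 := fun h0 => hss (h0 ▸ dvd_zero p)
  have hb0 : orderOf b ≠ 0 := fun h0 => hκ0 (Nat.eq_zero_of_zero_dvd (h0 ▸ hbκ))
  obtain ⟨l, hl, hlb⟩ := Nat.exists_prime_and_dvd (mt orderOf_eq_one_iff.1 h1)
  have : Fact l.Prime := ⟨hl⟩
  have hlp : l ≠ p := fun e => hss (e ▸ hlb.trans hbκ)
  obtain ⟨g, hg, s, hs, hJ⟩ := exists_isJ_zpowers (p := l) (orderOf_pos_iff.1 (Nat.pos_of_ne_zero hb0))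
  have hbz : zpowers b ≤ zpowers κ := (zpowers_le).2 hb
  have hgb : orderOf g ∣ orderOf b := orderOf_dvd_of_mem_zpowers hg
  have hκκ : ∀ x ∈ zpowers κ, ∀ y ∈ zpowers κ, Commute x y := fun x hx y hy =>
    commute_of_mem_zpowers (commute_of_mem_zpowers (Commute.refl κ) hy).symm hx
  obtain ⟨e, he⟩ := hJ.uni
  obtain ⟨e', he'⟩ := huu
  have hgl : (orderOf g).Coprime l := ((Nat.Prime.coprime_iff_not_dvd hl).2 hJ.ss).symm
  have hal : (orderOf a).Coprime l := hab.coprime_dvd_right hlb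
  have hbe : b * u = s * (g * u) := by rw [← hJ.eq, hJ.comm, mul_assoc]
  have hgu : Commute g u := commute_of_mem_zpowers hc (hbz hg)
  obtain ⟨ψ⟩ := exists_embedding l
  have step := lef_step (a := a) (s := s) (g := g * u) hinj hΦS hS hΦ (hZ ha) (hZ (hbz hs)) (mul_mem (hZ (hbz hg)) hu)
    (hκκ a ha s (hbz hs)) ((hκκ a ha g (hbz hg)).mul_right (commute_of_mem_zpowers hc ha))
    ((hκκ s (hbz hs) g (hbz hg)).mul_right (commute_of_mem_zpowers hc (hbz hs))) he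
    (Nat.Coprime.coprime_dvd_left hgu.orderOf_mul_dvd_mul_orderOf (Nat.Coprime.mul_left hgl
      (he' ▸ Nat.Coprime.pow_left e' ((Nat.coprime_primes Fact.out hl).2 hlp.symm)))) hal
    (hfin _ (mul_mem (hZ (hbz hs)) (mul_mem (hZ (hbz hg)) hu))) ψ
    (hbe ▸ (hP a ha b hb).2 l hlp ψ) ((hP _ (mul_mem ha (hbz hs)) g (hbz hg)).2 l hlp ψ)
  rw [hbe, step, ih (orderOf g) ?_ _ (mul_mem ha (hbz hs)) g (hbz hg) rfl ?_, mul_assoc, ← hJ.comm, hJ.eq]
  · rw [← hn]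
    refine lt_of_le_of_ne (Nat.le_of_dvd (Nat.pos_of_ne_zero hb0) hgb) fun e => hJ.ss (e ▸ hlb)
  · exact Nat.Coprime.coprime_dvd_left (hκκ a ha s (hbz hs)).orderOf_mul_dvd_mul_orderOf
      (Nat.Coprime.mul_left (hab.coprime_dvd_right hgb) (he ▸ Nat.Coprime.pow_left e hgl.symm))

/-- **The fixed point formula** for a group action. -/
theorem lef_fix (hinj : Function.Injective Φ) (hΦS : ∀ x ∈ S, Φ x ∈ S) (hS : ∀ z ∈ Z, ∀ x ∈ S, z • x ∈ S)
    (hΦ : ∀ z ∈ Z, ∀ x, Φ (z • x) = z • Φ x) {κ u : K} (hκ : κ ∈ Z) (hu : u ∈ Z) (hc : Commute κ u) (hss : IsSs p κ)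
    (huu : IsUni p u) (hfin : ∀ b ∈ Z, ∀ m, 0 < m → {x | x ∈ S ∧ Φ^[m] x = b • x}.Finite)
    (hP : ∀ a ∈ zpowers κ, ∀ b ∈ zpowers κ, PInd p (fcnt S Φ a (b * u))) :
    lef (fcnt S Φ (1 : K) (κ * u)) = lef (fcnt S Φ κ u) := by
  have := lef_fix_aux hinj hΦS hS hΦ hκ hu hc hss huu hfin hP _ 1 (one_mem _) κ (mem_zpowers κ) rfl (by simp)
  rwa [one_mul] at this

end Act

section Grp

variable {Γ : Type*} [Group Γ]

/-- two-sided translations -/
@[reducible] def biAct (Γ : Type*) [Group Γ] : MulAction (Γ × Γ) Γ where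
  smul z x := z.1 * x * z.2⁻¹
  one_smul x := by
    show 1 * x * (1 : Γ)⁻¹ = x
    group
  mul_smul a b x := by
    show a.1 * b.1 * x * (a.2 * b.2)⁻¹ = a.1 * (b.1 * x * b.2⁻¹) * a.2⁻¹
    group

/-- the count on the points fixed by `x ↦ s x t⁻¹` -/
noncomputable def fixF (F : MulAut Γ) (H : Subgroup Γ) (V : Set Γ) (s t g l : Γ) (m : ℕ) : ℂ :=
  (Nat.card {x // x ∈ pts F.toMonoidHom (F ^ m).toMonoidHom H V g l ∧ s * x * t⁻¹ = x} : ℂ)

/-- The local data at `t`; `C` is the connected centralizer of `t` in `H`. -/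
structure Loc (F : MulAut Γ) (H : Subgroup Γ) (V : Set Γ) (t : Γ) (C : Subgroup Γ) : Prop where
  le : C ≤ H
  cent : ∀ c ∈ C, c * t = t * c
  cut : ∀ v ∈ V, v * t = t * v → v ∈ C
  lang : ∀ a ∈ C, ∃ c ∈ C, a = c⁻¹ * F c

variable {F : MulAut Γ} {H C HF CF L : Subgroup Γ} {V : Set Γ}

theorem finite_of_fix (hfin : ∀ n, 0 < n → {y | (F ^ n) y = y}.Finite) (hHF : ∀ x, x ∈ HF ↔ x ∈ H ∧ F x = x) :
    Finite HF :=
  ((hfin 1 one_pos).subset fun x hx => by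
    show (F ^ 1) x = x
    rw [pow_one]
    exact ((hHF x).1 hx).2 : (HF : Set Γ).Finite).to_subtype

theorem isOfFinOrder_of_fix (hfin : ∀ n, 0 < n → {y | (F ^ n) y = y}.Finite) {t : Γ} (ht : F t = t) :
    IsOfFinOrder t := by
  have : Finite (fixIn F.toMonoidHom ⊤) := finite_of_fix (H := ⊤) hfin fun _ => Iff.rfl
  exact (fixIn F.toMonoidHom ⊤).subtype.isOfFinOrder (isOfFinOrder_of_finite ⟨t, trivial, ht⟩)

open Classical in
theorem fixF_eq (hfin : ∀ n, 0 < n → {y | (F ^ n) y = y}.Finite) (hHF : ∀ x, x ∈ HF ↔ x ∈ H ∧ F x = x)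
    (hCF : ∀ x, x ∈ CF ↔ x ∈ C ∧ F x = x) [Fintype HF] {s t l : Γ} (hC : Loc F H V t C) (hs : F s = s) (ht : F t = t)
    (hl : F l = l) (g : Γ) {m : ℕ} (hm : 0 < m) : fixF F H V s t g l m =
      (Nat.card CF : ℂ)⁻¹ * ∑ h : HF, if (h : Γ)⁻¹ * s * h = t then cntF F C V ((h : Γ)⁻¹ * g * h) l m else 0 := by
  have := finite_of_fix hfin hCF
  obtain rfl : HF = fixIn F.toMonoidHom H := Subgroup.ext hHF
  obtain rfl : CF = fixIn F.toMonoidHom C := Subgroup.ext hCF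
  have h1 := card_fix_mul (F := F.toMonoidHom) (σ := (F ^ m).toMonoidHom) (s := s) hC.le hC.cent hC.cut hC.lang
    (fun h hh => pow_apply_of_fixed hh.2 m) hs ht g l fun g' => finite_ptsF hfin hl (isOfFinOrder_of_fix hfin hl) hm
  have h2 : (Nat.card (fixIn F.toMonoidHom C) : ℂ) ≠ 0 := Nat.cast_ne_zero.2 Nat.card_pos.ne'
  rw [eq_inv_mul_iff_mul_eq₀ h2, mul_comm, fixF, ← Nat.cast_mul, h1, Nat.cast_sum]
  refine Finset.sum_congr rfl fun h _ => ?_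
  split_ifs
  · rfl
  · exact Nat.cast_zero

theorem fixF_one (g l : Γ) : fixF F H V 1 1 g l = cntF F H V g l := by
  funext m
  refine congrArg Nat.cast (Nat.card_congr (Equiv.subtypeEquivRight fun x => ?_))
  simp

variable {p : ℕ} [Fact p.Prime]

theorem isSs_prod {s t : Γ} (hs : IsSs p s) (ht : IsSs p t) : IsSs p ((s, t) : Γ × Γ) := by
  intro h
  rw [Prod.orderOf] at h
  rcases (Nat.Prime.dvd_lcm Fact.out).1 h with h | h
  · exact hs h
  · exact ht h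

theorem isUni_prod {u v : Γ} (hu : IsUni p u) (hv : IsUni p v) : IsUni p ((u, v) : Γ × Γ) := by
  obtain ⟨a, ha⟩ := hu
  obtain ⟨b, hb⟩ := hv
  have h : orderOf ((u, v) : Γ × Γ) ∣ p ^ (a + b) := by
    rw [Prod.orderOf]
    exact Nat.lcm_dvd (ha ▸ pow_dvd_pow p (Nat.le_add_right a b)) (hb ▸ pow_dvd_pow p (Nat.le_add_left b a))
  obtain ⟨c, -, hc⟩ := (Nat.dvd_prime_pow Fact.out).1 h
  exact ⟨c, hc⟩

open Classical in
/-- **The fixed point formula** for the variety `{x ∈ H | x⁻¹ F x ∈ V}`. -/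
theorem lam_fix (hfin : ∀ n, 0 < n → {y | (F ^ n) y = y}.Finite) (hHF : ∀ x, x ∈ HF ↔ x ∈ H ∧ F x = x) [Fintype HF]
    (hFH : ∀ x ∈ H, F x ∈ H) {d : ℕ} (hd : 0 < d) (hσV : ∀ v ∈ V, (F ^ d) v ∈ V) (hL : L ≤ HF)
    (hLV : ∀ l ∈ L, ∀ v ∈ V, l * v * l⁻¹ ∈ V) {s u t v : Γ} (hs : s ∈ HF) (hu : u ∈ HF) (ht : t ∈ L) (hv : v ∈ L)
    (hss : IsSs p s) (huu : IsUni p u) (hts : IsSs p t) (hvu : IsUni p v) (hsu : s * u = u * s) (htv : t * v = v * t)
    (hloc : ∀ z ∈ zpowers t, ∃ C, Loc F H V z C ∧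
      ∀ g ∈ HF, ∀ y ∈ zpowers t, PInd p fun m => cntF F C V g (y * v) (d * m))
    (hC : Loc F H V t C) (hCF : ∀ x, x ∈ CF ↔ x ∈ C ∧ F x = x)
    (hCe : ∀ g ∈ HF, ExpC fun m => cntF F C V g v (d * m)) :
    lam F H V (s * u) (t * v) =
      (Nat.card CF : ℂ)⁻¹ * ∑ h : HF, if (h : Γ)⁻¹ * s * h = t then lam F C V ((h : Γ)⁻¹ * u * h) v else 0 := by
  let _ := biAct Γ
  have hsm : ∀ (z : Γ × Γ) (x : Γ), z • x = z.1 * x * z.2⁻¹ := fun _ _ => rfl
  have hF : ∀ x ∈ HF, F x = x := fun x hx => ((hHF x).1 hx).2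
  have hH : ∀ x ∈ HF, x ∈ H := fun x hx => ((hHF x).1 hx).1
  let S : Set Γ := {x | x ∈ H ∧ x⁻¹ * F x ∈ V}
  have hit : ∀ m x, (F ^ d)^[m] x = (F ^ (d * m)) x := fun m x => by rw [pow_mul, pow_apply_eq_iterate]
  have e : ∀ a b : Γ × Γ, fcnt S ⇑(F ^ d) a b = fun m => fixF F H V a.1 a.2 b.1 b.2 (d * m) := by
    intro a b
    funext m
    refine congrArg Nat.cast (Nat.card_congr (Equiv.subtypeEquivRight fun x => ?_))
    rw [hit]
    exact ⟨fun h => ⟨⟨h.1.1, h.1.2, h.2.2⟩, h.2.1⟩, fun h => ⟨⟨h.1.1, h.1.2.1⟩, h.2, h.1.2.2⟩⟩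
  have hz : ∀ a ∈ zpowers ((s, t) : Γ × Γ), a.1 ∈ HF ∧ a.2 ∈ zpowers t := by
    rintro _ ⟨n, rfl⟩
    exact ⟨zpow_mem hs n, n, rfl⟩
  have hzL : zpowers t ≤ L := zpowers_le.2 ht
  have hP : ∀ a ∈ zpowers ((s, t) : Γ × Γ), ∀ b ∈ zpowers ((s, t) : Γ × Γ),
      PInd p (fcnt S ⇑(F ^ d) a (b * (u, v))) := by
    intro a ha b hb
    obtain ⟨C', hC', hP'⟩ := hloc a.2 (hz a ha).2
    rw [e]
    refine PInd.congr ?_ fun m hm => (fixF_eq (CF := fixIn F.toMonoidHom C') hfin hHF (fun _ => Iff.rfl) hC'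
      (hF _ (hz a ha).1) (hF _ (hL (hzL (hz a ha).2))) (hF _ (hL (mul_mem (hzL (hz b hb).2) hv))) _
      (Nat.mul_pos hd hm)).symm
    refine (PInd.sum _ fun h _ => ?_).smul _
    split_ifs
    · exact hP' _ (mul_mem (mul_mem (inv_mem h.2) (mul_mem (hz b hb).1 hu)) h.2) _ (hz b hb).2
    · exact PInd.const 0
  have key := lef_fix (p := p) (S := S) (Φ := ⇑(F ^ d)) (Z := HF.prod L) (κ := (s, t)) (u := (u, v))
    (F ^ d).injective (fun x hx => ⟨pow_apply_mem (S := (H : Set Γ)) hFH d hx.1, by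
      have h1 : F ((F ^ d) x) = (F ^ d) (F x) := by
        rw [← MulAut.mul_apply, ← MulAut.mul_apply, ← pow_succ', ← pow_succ]
      rw [h1, ← map_inv, ← map_mul]
      exact hσV _ hx.2⟩)
    (fun z hz x hx => ⟨mul_mem (mul_mem (hH _ hz.1) hx.1) (inv_mem (hH _ (hL hz.2))), by
      have h1 : (z • x)⁻¹ * F (z • x) = z.2 * (x⁻¹ * F x) * z.2⁻¹ := by
        rw [hsm, map_mul, map_mul, map_inv, hF _ hz.1, hF _ (hL hz.2)]; group
      rw [h1]
      exact hLV _ hz.2 _ hx.2⟩)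
    (fun z hz x => by
      rw [hsm, hsm, map_mul, map_mul, map_inv, pow_apply_of_fixed (hF _ hz.1), pow_apply_of_fixed (hF _ (hL hz.2))])
    ⟨hs, ht⟩ ⟨hu, hv⟩ (Prod.ext hsu htv) (isSs_prod hss hts) (isUni_prod huu hvu)
    (fun b hb m hm => (finite_ptsF (H := H) (V := V) (g := b.1) hfin (hF _ (hL hb.2))
      (isOfFinOrder_of_fix hfin (hF _ (hL hb.2))) (Nat.mul_pos hd hm)).subset fun x hx =>
        ⟨hx.1.1, hx.1.2, (hit m x).symm.trans hx.2⟩) hP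
  have h1 := (hP 1 (one_mem _) _ (mem_zpowers _)).expC
  rw [e] at h1
  rw [e, e] at key
  simp only [Prod.fst_one, Prod.snd_one, Prod.fst_mul, Prod.snd_mul, fixF_one] at h1 key
  have h2 : ∀ h : HF, ExpC fun m =>
      if (h : Γ)⁻¹ * s * h = t then cntF F C V ((h : Γ)⁻¹ * u * h) v (d * m) else 0 := by
    intro h
    split_ifs
    · exact hCe _ (mul_mem (mul_mem (inv_mem h.2) hu) h.2)
    · exact expC_const 0
  rw [lam_eq hd h1, key, lef_congr fun m hm => fixF_eq hfin hHF hCF hC (hF _ hs) (hF _ (hL ht)) (hF _ (hL hv)) u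
    (Nat.mul_pos hd hm), lef_smul (ExpC.sum _ fun h _ => h2 h), lef_sum _ fun h _ => h2 h]
  congr 1
  refine Finset.sum_congr rfl fun h _ => ?_
  split_ifs
  · exact (lam_eq hd (hCe _ (mul_mem (mul_mem (inv_mem h.2) hu) h.2))).symm
  · exact lef_const 0

end Grp

end Cfsg.Agent.DL.CF
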