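import Cfsg.Agent.DL.CF.Fix
import Cfsg.Agent.DL.CF.Conn

/-!
# The character formula, abstract form (helper1)

`Tor p F H HF K V` collects the geometric hypotheses for one pair (`K = T^F`, `V` the unipotent radical).

* `Tor.lam_eq`, `Tor.lam_eq_zero` : the fixed point formula;
* `Tor.pconst` : `R (φ f) = φ R f` for `p`-constant `φ`;
* `Tor.ind_uni` : the value on unipotent elements;
* `Tor.ind_jordan` : the character formula;
* `eq_of_orth` : independence of `V` from the orthogonality relations.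
-/

set_option autoImplicit false

namespace Cfsg.Agent.DL.CF

open Cfsg.Agent.DL.Lef Cfsg.Agent.DL.Uni Subgroup Cfsg.Agent.Nodes.Reps

/-- "for all sufficiently divisible `d`" -/
def Ev (P : ℕ → Prop) : Prop := ∃ d₀, 0 < d₀ ∧ ∀ d, 0 < d → d₀ ∣ d → P d

namespace Ev

variable {P Q : ℕ → Prop}

theorem mono (h : Ev P) (hPQ : ∀ d, 0 < d → P d → Q d) : Ev Q :=
  let ⟨d₀, h0, h1⟩ := h
  ⟨d₀, h0, fun d hd hdd => hPQ d hd (h1 d hd hdd)⟩

theorem of_forall (h : ∀ d, 0 < d → P d) : Ev P := ⟨1, one_pos, fun d hd _ => h d hd⟩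

theorem and (h : Ev P) (h' : Ev Q) : Ev fun d => P d ∧ Q d :=
  let ⟨a, ha, h1⟩ := h
  let ⟨b, hb, h2⟩ := h'
  ⟨a * b, Nat.mul_pos ha hb, fun d hd hdd =>
    ⟨h1 d hd ((dvd_mul_right a b).trans hdd), h2 d hd ((dvd_mul_left b a).trans hdd)⟩⟩

theorem all {ι : Type*} [Finite ι] {P : ι → ℕ → Prop} (h : ∀ i, Ev (P i)) : Ev fun d => ∀ i, P i d := by
  have := Fintype.ofFinite ι
  choose a ha h1 using h
  exact ⟨∏ i, a i, Finset.prod_pos fun i _ => ha i, fun d hd hdd i =>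
    h1 i d hd ((Finset.dvd_prod_of_mem a (Finset.mem_univ i)).trans hdd)⟩

theorem ex (h : Ev P) : ∃ d, 0 < d ∧ P d :=
  let ⟨d₀, h0, h1⟩ := h
  ⟨d₀, h0, h1 d₀ h0 dvd_rfl⟩

theorem dvd {d₀ : ℕ} (h : 0 < d₀) : Ev fun d => d₀ ∣ d := ⟨d₀, h, fun _ _ h => h⟩

end Ev

variable {Γ : Type*} [Group Γ]

/-- The geometric hypotheses for one pair. -/
structure Tor (p : ℕ) (F : MulAut Γ) (H HF K : Subgroup Γ) (V : Set Γ) : Prop where
  fin : ∀ n, 0 < n → {y | (F ^ n) y = y}.Finite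
  fix : ∀ x, x ∈ HF ↔ x ∈ H ∧ F x = x
  stab : H.map F.toMonoidHom = H
  le : K ≤ HF
  ss : ∀ t ∈ K, IsSs p t
  norm : ∀ l ∈ K, ∀ v ∈ V, l * v * l⁻¹ ∈ V
  frob : Ev fun d => ∀ v ∈ V, (F ^ d) v ∈ V
  loc : ∀ z ∈ K, Loc F H V z (cco H z)
  sub : ∀ z ∈ K, K ≤ cco H z
  pur : ∀ z ∈ K, Ev fun d => ∀ g ∈ cco H z, F g = g → ∀ t ∈ K, PInd p fun m => cntF F (cco H z) V g t (d * m)

variable {p : ℕ} [Fact p.Prime] {F : MulAut Γ} {H HF K : Subgroup Γ} {V : Set Γ}

theorem mem_of_map_eq (h : H.map F.toMonoidHom = H) {x : Γ} (hx : x ∈ H) : F x ∈ H :=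
  h.le (Subgroup.mem_map_of_mem F.toMonoidHom hx)

theorem card_fix_cj {C CF C' CF' : Subgroup Γ} {h : Γ} (hF : F h = h) (e : C' = cj h C)
    (hCF : ∀ x, x ∈ CF ↔ x ∈ C ∧ F x = x) (hCF' : ∀ x, x ∈ CF' ↔ x ∈ C' ∧ F x = x) : Nat.card CF' = Nat.card CF := by
  have h1 : CF' = cj h CF := by
    ext x
    rw [hCF', e, mem_cj, mem_cj, hCF, map_mul, map_mul, map_inv, hF, mul_left_inj, mul_right_inj]
  rw [h1, Uni.card_cj]

namespace Tor

variable (T : Tor p F H HF K V)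

include T

omit [Fact p.Prime] in
theorem finite : Finite HF := finite_of_fix T.fin T.fix

omit [Fact p.Prime] in
theorem finiteK : Finite K :=
  have := T.finite
  Finite.of_injective (Subgroup.inclusion T.le) (Subgroup.inclusion_injective _)

omit [Fact p.Prime] in
theorem fixed {x : Γ} (hx : x ∈ HF) : F x = x := ((T.fix x).1 hx).2

omit [Fact p.Prime] in
theorem mem {x : Γ} (hx : x ∈ HF) : x ∈ H := ((T.fix x).1 hx).1

omit [Fact p.Prime] in
theorem pur' : Ev fun d => ∀ z ∈ K, ∀ g ∈ HF, ∀ t ∈ K, PInd p fun m => cntF F (cco H z) V g t (d * m) := by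
  have := T.finiteK
  refine (Ev.all fun z : K => T.pur z z.2).mono fun d _ h z hz g hg t ht => ?_
  by_cases hgC : g ∈ cco H z
  · exact h ⟨z, hz⟩ g hgC (T.fixed hg) t ht
  · rw [cntF_eq_zero (fun x hx => mem_of_map_eq (map_cco_of_fixed F T.stab (T.fixed (T.le hz))) hx)
      (T.sub z hz ht) hgC]
    exact PInd.const 0

open Classical in
/-- **The fixed point formula.** -/
theorem lam_eq [Fintype HF] {s u t : Γ} (hs : s ∈ HF) (hu : u ∈ HF) (ht : t ∈ K) (hss : IsSs p s) (huu : IsUni p u)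
    (hsu : s * u = u * s) {CF : Subgroup Γ} (hCF : ∀ x, x ∈ CF ↔ x ∈ cco H t ∧ F x = x) :
    lam F H V (s * u) t = (Nat.card CF : ℂ)⁻¹ *
      ∑ h : HF, if (h : Γ)⁻¹ * s * h = t then lam F (cco H t) V ((h : Γ)⁻¹ * u * h) 1 else 0 := by
  obtain ⟨d, hd, h1, h2⟩ := (T.frob.and T.pur').ex
  have hz : zpowers t ≤ K := zpowers_le.2 ht
  have := lam_fix (p := p) (v := 1) T.fin T.fix (fun _ hx => mem_of_map_eq T.stab hx) hd h1 T.le T.norm hs hu ht
    (one_mem _) hss huu (T.ss t ht) isUni_one hsu (by simp)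
    (fun z hz' => ⟨_, T.loc z (hz hz'), fun g hg y hy => h2 z (hz hz') g hg _ (mul_mem (hz hy) (one_mem _))⟩)
    (T.loc t ht) hCF fun g hg => (h2 t ht g hg 1 (one_mem _)).expC
  rwa [mul_one] at this

theorem lam_eq_zero {s u t : Γ} (hs : s ∈ HF) (hu : u ∈ HF) (ht : t ∈ K) (hss : IsSs p s) (huu : IsUni p u)
    (hsu : s * u = u * s) (h0 : ∀ h ∈ HF, h⁻¹ * s * h ≠ t) : lam F H V (s * u) t = 0 := by
  classical
  have := T.finite
  have := Fintype.ofFinite HF
  rw [T.lam_eq hs hu ht hss huu hsu (CF := fixIn F.toMonoidHom (cco H t)) fun _ => Iff.rfl,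
    Finset.sum_eq_zero fun (h : HF) _ => if_neg (h0 h h.2), mul_zero]

/-- multiplication by `p`-constant functions -/
theorem pconst {φ : Γ → ℂ} (hφ : PConst p HF φ) (f : Γ → ℂ) {g : Γ} (hg : g ∈ HF) :
    ind F H K V (φ * f) g = φ g * ind F H K V f g := by
  have := T.finite
  have := T.finiteK
  have := Fintype.ofFinite K
  obtain ⟨s, hs, u, hu, hJ⟩ := exists_isJ (p := p) hg
  rw [ind_apply', ind_apply', mul_left_comm, Finset.mul_sum Finset.univ _ (φ g)]
  congr 1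
  refine Finset.sum_congr rfl fun t _ => ?_
  by_cases h0 : ∀ h ∈ HF, h⁻¹ * s * h ≠ t
  · rw [← hJ.eq, T.lam_eq_zero hs hu t.2 hJ.ss hJ.uni hJ.comm h0]
    simp
  · push Not at h0
    obtain ⟨h, hh, e⟩ := h0
    have h1 : φ t = φ g := by
      rw [← e, hφ.cls.conj' hs hh, ← hJ.eq, hφ.jordan s hs u hu hJ.ss hJ.uni hJ.comm]
    rw [Pi.mul_apply, h1]
    ring

/-- the value on a unipotent element -/
theorem ind_uni (f : Γ → ℂ) {u : Γ} (hu : u ∈ HF) (huu : IsUni p u) :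
    ind F H K V f u = (Nat.card K : ℂ)⁻¹ * (lam F H V u 1 * f 1) := by
  have := T.finiteK
  have := Fintype.ofFinite K
  rw [ind_apply', Finset.sum_eq_single (1 : K)]
  · rfl
  · intro t _ ht
    have := T.lam_eq_zero (one_mem _) hu t.2 isSs_one huu (by simp) fun h _ e => ht (Subtype.ext (by
      rw [← e]; simp))
    rw [one_mul] at this
    rw [this, zero_mul]
  · intro h
    exact absurd (Finset.mem_univ _) h

open Classical in
/-- **The character formula** in terms of Lefschetz numbers. -/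
theorem ind_jordan [Fintype HF] (f : Γ → ℂ) {s u : Γ} (hs : s ∈ HF) (hu : u ∈ HF) (hss : IsSs p s) (huu : IsUni p u)
    (hsu : s * u = u * s) {CF : Subgroup Γ} (hCF : ∀ x, x ∈ CF ↔ x ∈ cco H s ∧ F x = x) :
    ind F H K V f (s * u) = (Nat.card CF : ℂ)⁻¹ * ∑ h : HF, if (h : Γ)⁻¹ * s * h ∈ K then
      f ((h : Γ)⁻¹ * s * h) * ((Nat.card K : ℂ)⁻¹ * lam F (cco H s) {v | (h : Γ)⁻¹ * v * h ∈ V} u 1) else 0 := by
  have := T.finiteK
  have := Fintype.ofFinite K
  have key : ∀ t : K, lam F H V (s * u) t * f t = ∑ h : HF, if (h : Γ)⁻¹ * s * h = t then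
      (Nat.card CF : ℂ)⁻¹ * (f ((h : Γ)⁻¹ * s * h) * lam F (cco H s) {v | (h : Γ)⁻¹ * v * h ∈ V} u 1) else 0 := by
    intro t
    rw [T.lam_eq hs hu t.2 hss huu hsu (CF := fixIn F.toMonoidHom (cco H t)) fun _ => Iff.rfl, Finset.mul_sum,
      Finset.sum_mul]
    refine Finset.sum_congr rfl fun h _ => ?_
    split_ifs with e
    · have e1 : cco H s = cj (h : Γ) (cco H t) := by
        rw [cj_cco_of_mem (T.mem h.2), ← e]
        congr 1
        group
      rw [card_fix_cj (T.fixed h.2) e1 (CF := fixIn F.toMonoidHom (cco H t)) (fun _ => Iff.rfl) hCF,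
        lam_conj (H := cco H t) (H' := cco H s) (V := V) (V' := {v | (h : Γ)⁻¹ * v * h ∈ V}) (T.fixed h.2) 
          (fun x => by rw [e1, mem_cj]) fun _ => Iff.rfl, e]
      simp only [mul_one, inv_mul_cancel]
      ring
    · simp
  rw [ind_apply', Finset.sum_congr rfl fun t _ => key t, Finset.sum_comm, Finset.mul_sum, Finset.mul_sum]
  refine Finset.sum_congr rfl fun h _ => ?_
  split_ifs with e
  · rw [Finset.sum_eq_single (⟨_, e⟩ : K), if_pos rfl]
    · ring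
    · intro t _ ht
      exact if_neg fun e' => ht (Subtype.ext e'.symm)
    · intro h
      exact absurd (Finset.mem_univ _) h
  · rw [Finset.sum_eq_zero fun (t : K) _ => if_neg fun e' : (h : Γ)⁻¹ * s * h = t => e (e' ▸ t.2)]
    simp

end Tor

/-- two functions with the same scalar products agree -/
theorem eq_of_orth [Finite HF] {f f' : Γ → ℂ} (h1 : ip HF f f = ip HF f f') (h2 : ip HF f' f = ip HF f' f') :
    ∀ g ∈ HF, f g = f' g := by
  intro g hg
  have h3 : ip HF (f - f') (f - f') = 0 := by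
    rw [ip_sub_left, ip_sub_right, ip_sub_right, h1, h2]
    ring
  exact sub_eq_zero.1 (eq_zero_of_ip_self h3 g hg)

end Cfsg.Agent.DL.CF
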